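import Mathlib

/-!
# `2`-groups of automorphisms which are cyclic modulo the inner automorphisms (helper507)

`Cyc2 K` : every `2`-subgroup `P` of `MulAut K` has an element `γ` with `P ⊆ ⟨γ⟩ Inn K`.
* `cyc2_of_hom`, `cyc2_of_two` : criteria; `Cyc2.of_equiv`;
* `Cyc2.isCyclic_quotient` : `P / (P ∩ Inn K)` is cyclic; `Cyc2.exists_mem` : the form for a `2`-subgroup `T` of a
  group normalising a subgroup `K`.
-/

set_option autoImplicit false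

namespace Cfsg.Agent.KFacts.OutCyc.Gen

/-- every `2`-group of automorphisms of `K` is cyclic modulo the inner automorphisms -/
def Cyc2 (K : Type*) [Group K] : Prop :=
  ∀ P : Subgroup (MulAut K), IsPGroup 2 ↥P → ∃ γ ∈ P, ∀ α ∈ P, ∃ (k : ℤ) (x : K), α = γ ^ k * MulAut.conj x

/-- a homomorphism of `P` to a cyclic group whose kernel consists of inner automorphisms -/
theorem exists_gen_of_hom {K : Type*} [Group K] {P : Subgroup (MulAut K)} {A : Type*} [Group A] [IsCyclic A]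
    (f : ↥P →* A) (hf : ∀ α : ↥P, f α = 1 → ∃ x, α.1 = MulAut.conj x) :
    ∃ γ ∈ P, ∀ α ∈ P, ∃ (k : ℤ) (x : K), α = γ ^ k * MulAut.conj x := by
  have hcyc : IsCyclic ↥f.range := inferInstance
  obtain ⟨⟨a, ha⟩, hgen⟩ := hcyc.exists_generator
  obtain ⟨γ, rfl⟩ := ha
  refine ⟨γ.1, γ.2, fun α hα => ?_⟩
  obtain ⟨k, hk⟩ := Subgroup.mem_zpowers_iff.1 (hgen ⟨f ⟨α, hα⟩, ⟨α, hα⟩, rfl⟩)
  have hk' : f γ ^ k = f ⟨α, hα⟩ := congrArg Subtype.val hk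
  obtain ⟨x, hx⟩ := hf ((γ ^ k)⁻¹ * ⟨α, hα⟩) (by rw [map_mul, map_inv, map_zpow, hk', inv_mul_cancel])
  refine ⟨k, x, ?_⟩
  rw [← hx]
  show α = γ.1 ^ k * ((γ.1 ^ k)⁻¹ * α)
  group

theorem cyc2_of_hom {K : Type*} [Group K]
    (h : ∀ P : Subgroup (MulAut K), IsPGroup 2 ↥P → ∃ (A : Type) (_ : Group A) (_ : IsCyclic A) (f : ↥P →* A),
      ∀ α : ↥P, f α = 1 → ∃ x, α.1 = MulAut.conj x) : Cyc2 K := by
  intro P hP
  obtain ⟨A, _, _, f, hf⟩ := h P hP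
  exact exists_gen_of_hom f hf

/-- criterion: a homomorphism `f` to a cyclic group, the kernel of `f` has at most two cosets of `Inn K`, and some `φ`
with `⟨f φ⟩ = f(Aut K)` has a power in the kernel of `f` which is not inner. -/
theorem exists_gen_of_two {K : Type*} [Group K] {A : Type*} [Group A] (f : MulAut K →* A) (φ : MulAut K) (m : ℕ)
    (hφ : ∀ α : MulAut K, ∃ k : ℤ, f α = f φ ^ k) (hm : f φ ^ m = 1) (hni : ∀ x : K, φ ^ m ≠ MulAut.conj x)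
    (h2 : ∀ α β : MulAut K, f α = 1 → f β = 1 → (∀ x, α ≠ MulAut.conj x) → (∀ x, β ≠ MulAut.conj x) →
      ∃ x, α * β = MulAut.conj x) : ∀ α : MulAut K, ∃ (k : ℤ) (x : K), α = φ ^ k * MulAut.conj x := by
  intro α
  obtain ⟨k, hk⟩ := hφ α
  have h1 : f ((φ ^ k)⁻¹ * α) = 1 := by rw [map_mul, map_inv, map_zpow, ← hk, inv_mul_cancel]
  by_cases hin : ∃ x, (φ ^ k)⁻¹ * α = MulAut.conj x
  · obtain ⟨x, hx⟩ := hin
    refine ⟨k, x, ?_⟩
    rw [← hx]; group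
  · push Not at hin
    have hm' : f (φ ^ m)⁻¹ = 1 := by rw [map_inv, map_pow, hm, inv_one]
    obtain ⟨x, hx⟩ := h2 (φ ^ m)⁻¹ _ hm' h1 (by
      intro x hx
      apply hni x⁻¹
      rw [map_inv, ← hx, inv_inv]) hin
    refine ⟨k + m, x, ?_⟩
    rw [← hx, zpow_add, zpow_natCast]; group

/-- if `Aut K = ⟨φ⟩ Inn K` then `Cyc2 K` -/
theorem cyc2_of_gen {K : Type*} [Group K] {φ : MulAut K}
    (h : ∀ α : MulAut K, ∃ (k : ℤ) (x : K), α = φ ^ k * MulAut.conj x) : Cyc2 K := by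
  intro P _
  have hN : ((MulAut.conj : K →* MulAut K).range).Normal := ⟨by
    rintro _ ⟨x, rfl⟩ α
    refine ⟨α x, ?_⟩
    ext y
    simp [MulAut.conj_apply, MulAut.mul_apply]⟩
  have hcyc : IsCyclic (MulAut K ⧸ (MulAut.conj : K →* MulAut K).range) := by
    refine ⟨⟨QuotientGroup.mk φ, fun a => ?_⟩⟩
    obtain ⟨α, rfl⟩ := QuotientGroup.mk_surjective a
    obtain ⟨k, x, rfl⟩ := h α
    refine Subgroup.mem_zpowers_iff.2 ⟨k, ?_⟩
    rw [← QuotientGroup.mk_zpow, QuotientGroup.eq]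
    refine ⟨x, ?_⟩
    group
  exact exists_gen_of_hom ((QuotientGroup.mk' (MulAut.conj : K →* MulAut K).range).comp P.subtype) (fun α hα => by
    obtain ⟨x, hx⟩ := (QuotientGroup.eq_one_iff _).1 hα
    exact ⟨x, hx.symm⟩)

theorem Cyc2.of_equiv {K L : Type*} [Group K] [Group L] (e : K ≃* L) (h : Cyc2 K) : Cyc2 L := by
  intro P hP
  set c : MulAut L →* MulAut K := (MulAut.congr e.symm).toMonoidHom with hc
  have hcx : ∀ (α : MulAut L) (x : K), c α x = e.symm (α (e x)) := fun α x => rfl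
  have hinj : Function.Injective c := (MulAut.congr e.symm).injective
  obtain ⟨γ, ⟨γ', hγ', rfl⟩, h1⟩ := h (P.map c) (hP.map c)
  refine ⟨γ', hγ', fun α hα => ?_⟩
  obtain ⟨k, x, hx⟩ := h1 (c α) ⟨α, hα, rfl⟩
  refine ⟨k, e x, hinj ?_⟩
  rw [hx, map_mul, map_zpow]
  congr 1
  ext y
  rw [hcx, MulAut.conj_apply, MulAut.conj_apply, map_mul, map_mul, map_inv, e.symm_apply_apply,
    e.symm_apply_apply]

/-- `P / (P ∩ Inn K)` is cyclic -/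
theorem Cyc2.isCyclic_quotient {K : Type*} [Group K] (h : Cyc2 K) {P : Subgroup (MulAut K)}
    (hP : IsPGroup 2 ↥P) [hN : ((MulAut.conj : K →* MulAut K).range.subgroupOf P).Normal] :
    IsCyclic (↥P ⧸ (MulAut.conj : K →* MulAut K).range.subgroupOf P) := by
  obtain ⟨γ, hγ, h1⟩ := h P hP
  refine ⟨⟨QuotientGroup.mk ⟨γ, hγ⟩, fun a => ?_⟩⟩
  obtain ⟨⟨α, hα⟩, rfl⟩ := QuotientGroup.mk_surjective a
  obtain ⟨k, x, hx⟩ := h1 α hα
  refine Subgroup.mem_zpowers_iff.2 ⟨k, ?_⟩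
  rw [← QuotientGroup.mk_zpow, QuotientGroup.eq, Subgroup.mem_subgroupOf]
  refine ⟨x, ?_⟩
  show MulAut.conj x = (γ ^ k)⁻¹ * α
  rw [hx]; group

/-- The form for a `2`-subgroup `T` of a group normalising `K`: there is `y ∈ T` with `T ⊆ ⟨y⟩ K C(K)`. -/
theorem Cyc2.exists_mem {G : Type*} [Group G] {K T : Subgroup G} (h : Cyc2 ↥K) (hT : IsPGroup 2 ↥T)
    (hn : ∀ g ∈ T, ∀ x, x ∈ K ↔ g * x * g⁻¹ ∈ K) :
    ∃ y ∈ T, ∀ g ∈ T, ∃ (k : ℤ) (x c : G), x ∈ K ∧ (∀ z ∈ K, c * z = z * c) ∧ g = y ^ k * x * c := by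
  let a : ↥T →* MulAut ↥K := MonoidHom.mk' (fun g =>
    { toFun := fun x => ⟨g.1 * x * g.1⁻¹, (hn g.1 g.2 x).1 x.2⟩
      invFun := fun x => ⟨g.1⁻¹ * x * g.1, by
        rw [hn g.1 g.2]
        have : g.1 * (g.1⁻¹ * x * g.1) * g.1⁻¹ = x := by group
        rw [this]; exact x.2⟩
      left_inv := fun x => Subtype.ext (by
        show g.1⁻¹ * (g.1 * x * g.1⁻¹) * g.1 = x
        group)
      right_inv := fun x => Subtype.ext (by
        show g.1 * (g.1⁻¹ * x * g.1) * g.1⁻¹ = x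
        group)
      map_mul' := fun x y => Subtype.ext (by
        show g.1 * (x * y) * g.1⁻¹ = (g.1 * x * g.1⁻¹) * (g.1 * y * g.1⁻¹)
        group) }) (fun g g' => by
      ext x
      show g.1 * g'.1 * x * (g.1 * g'.1)⁻¹ = g.1 * (g'.1 * x * g'.1⁻¹) * g.1⁻¹
      group)
  have ha : ∀ (g : ↥T) (x : ↥K), ((a g x : ↥K) : G) = g.1 * x * g.1⁻¹ := fun _ _ => rfl
  obtain ⟨γ, ⟨y, rfl⟩, h1⟩ := h a.range (hT.of_surjective a.rangeRestrict a.rangeRestrict_surjective)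
  refine ⟨y.1, y.2, fun g hg => ?_⟩
  obtain ⟨k, x, hx⟩ := h1 (a ⟨g, hg⟩) ⟨_, rfl⟩
  refine ⟨k, x.1, (y.1 ^ k * x.1)⁻¹ * g, x.2, ?_, by group⟩
  intro z hz
  have h2 : a ((y ^ k)⁻¹ * ⟨g, hg⟩) = MulAut.conj x := by
    rw [map_mul, map_inv, map_zpow, hx]; group
  have h3 := congrArg (fun α : MulAut ↥K => ((α ⟨z, hz⟩ : ↥K) : G)) h2
  have h4 : ((y.1 ^ k)⁻¹ * g) * z * ((y.1 ^ k)⁻¹ * g)⁻¹ = x.1 * z * x.1⁻¹ := h3
  calc (y.1 ^ k * x.1)⁻¹ * g * z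
      = x.1⁻¹ * (((y.1 ^ k)⁻¹ * g) * z * ((y.1 ^ k)⁻¹ * g)⁻¹) * ((y.1 ^ k)⁻¹ * g) := by group
    _ = x.1⁻¹ * (x.1 * z * x.1⁻¹) * ((y.1 ^ k)⁻¹ * g) := by rw [h4]
    _ = z * ((y.1 ^ k * x.1)⁻¹ * g) := by group

end Cfsg.Agent.KFacts.OutCyc.Gen
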