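import Mathlib
import Cfsg.Agent.KFacts.OutCyc.Gen
import Cfsg.Agent.AutOrth.Final
import Cfsg.Agent.ClassicalGeometry.OrthDickson
import Cfsg.Agent.StdRank2.OutField

/-!
# `2`-groups of automorphisms of `Ω⁻_{2n}(q)`, `q` even, are cyclic modulo inner automorphisms (helper507)

`Γ(V) / Ω(V) F^*` is generated by the class of one semilinear isometry `Φ` (the squares of the coordinates on the
hyperbolic part, the squaring map of `F_{q²} = V₀` on the anisotropic part); `Φ^a` is a reflection (`q = 2^a`).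
Result : `cyc2 : 3 ≤ m → Cyc2 (POmega F (quadFormMinus m F b c))`, `cyc2_E` for `↥(E (minusForm m F b c))`.
-/

set_option autoImplicit false
set_option linter.unusedSectionVars false
set_option linter.unusedVariables false

namespace Cfsg.Agent.KFacts.OutCyc.Minus

open QuadraticMap Cfsg.Agent.LieClassical.OrthCore Cfsg.Agent.LieClassical.OrthTrans
  Cfsg.Agent.LieClassical.OrthSimple Cfsg.Agent.ClassicalGeometry.OrthSemi
  Cfsg.Agent.ClassicalGeometry.OrthSemiCount Cfsg.Agent.ClassicalGeometry.OrthSemiForms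
  Cfsg.Agent.LieClassical.OrthForms Cfsg.Agent.LieClassical.OrthFinite
  Cfsg.Agent.KFacts.OutCyc.Gen

/-! ### The Frobenius -/

theorem exists_frob (F : Type*) [Field F] [Finite F] [CharP F 2] :
    ∃ fr : F ≃+* F, (∀ x, fr x = x ^ 2) ∧ ∀ σ : F ≃+* F, ∃ m : ℕ, σ = fr ^ m := by
  have : Fact (Nat.Prime 2) := ⟨Nat.prime_two⟩
  let _ : Algebra (ZMod 2) F := ZMod.algebra F 2
  have : Fintype (ZMod 2) := ZMod.fintype 2
  let fr : F ≃+* F := (FiniteField.frobeniusAlgEquivOfAlgebraic (ZMod 2) F).toRingEquiv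
  have hfr : ∀ x, fr x = x ^ 2 := by
    intro x
    show FiniteField.frobeniusAlgEquivOfAlgebraic (ZMod 2) F x = x ^ 2
    rw [FiniteField.frobeniusAlgEquivOfAlgebraic_apply, ZMod.card]
  have hpow : ∀ (m : ℕ) x, ((FiniteField.frobeniusAlgEquivOfAlgebraic (ZMod 2) F) ^ m) x = (fr ^ m) x := by
    intro m
    induction m with
    | zero => intro x; rfl
    | succ m ih =>
      intro x
      rw [pow_succ, pow_succ, AlgEquiv.mul_apply, RingAut.mul_apply, ih]
      rfl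
  refine ⟨fr, hfr, fun σ => ?_⟩
  obtain ⟨m, hm⟩ := (FiniteField.bijective_frobeniusAlgEquivOfAlgebraic_pow (ZMod 2) F).2
    (StdRank2.OutField.toGal 2 σ)
  refine ⟨m.1, ?_⟩
  ext x
  rw [← hpow]
  exact (congrArg (fun f : F ≃ₐ[ZMod 2] F => f x) hm).symm

/-! ### Isometries as automorphisms -/

section Abstract

variable {F V : Type*} [Field F] [AddCommGroup V] [Module F V] {Q : QuadraticForm F V}

/-- an isometry as a semisimilitude -/
def iso (g : O Q) : Gam Q := ⟨permO Q g, _, _, isSS_permO g⟩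

theorem iso_apply (g : O Q) (v : V) : (iso g).1 v = g.1 v := rfl

theorem iso_mul (g h : O Q) : iso (g * h) = iso g * iso h := Subtype.ext (map_mul (permO Q) g h)

theorem Psi_iso {g : O Q} (hg : (g : V ≃ₗ[F] V) ∈ E Q) :
    Psi Q (iso g) = MulAut.conj (QuotientGroup.mk ⟨g.1, hg⟩) := by
  ext x
  induction x using QuotientGroup.induction_on with
  | H h =>
    rw [Psi_mk, MulAut.conj_apply, ← QuotientGroup.mk_inv, ← QuotientGroup.mk_mul, ← QuotientGroup.mk_mul]
    congr 1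

/-- the field automorphism of a semisimilitude -/
noncomputable def sig (hG : Good Q) : Gam Q →* (F ≃+* F) :=
  MonoidHom.mk' (fun M => (mem_Gam.1 M.2).choose) (by
    intro M N
    obtain ⟨c, hM⟩ := (mem_Gam.1 M.2).choose_spec
    obtain ⟨d, hN⟩ := (mem_Gam.1 N.2).choose_spec
    obtain ⟨e, hMN⟩ := (mem_Gam.1 (M * N).2).choose_spec
    exact (isSS_unique hG hMN (hM.mul hN)).1)

theorem sig_eq (hG : Good Q) {M : Gam Q} {σ : F ≃+* F} {c : F} (h : IsSS Q σ c M.1) : sig hG M = σ := by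
  obtain ⟨d, hM⟩ := (mem_Gam.1 M.2).choose_spec
  exact (isSS_unique hG hM h).1

/-- the field automorphism of an automorphism -/
theorem exists_hom (hG : Good Q) (hs : Function.Surjective (Psi Q)) :
    ∃ f : MulAut (↥(E Q) ⧸ Subgroup.center ↥(E Q)) →* (F ≃+* F), ∀ M, f (Psi Q M) = sig hG M := by
  have hker : (Psi Q).ker ≤ (sig hG).ker := by
    rw [ker_Psi hG]
    rintro _ ⟨a, rfl⟩
    rw [MonoidHom.mem_ker]
    exact sig_eq hG (c := (a : F) * a) ⟨mul_ne_zero a.ne_zero a.ne_zero, fun u v => smul_add _ _ _,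
      fun t v => smul_comm _ _ _, fun v => by
        show Q ((a : F) • v) = _
        rw [QuadraticMap.map_smul]; rfl⟩
  refine ⟨(Psi Q).liftOfSurjective hs ⟨sig hG, hker⟩, fun M => ?_⟩
  exact MonoidHom.liftOfRightInverse_comp_apply _ _ _ _ _

/-- in characteristic two: the automorphisms with trivial field automorphism come from isometries -/
theorem exists_iso (hG : Good Q) [Finite F] [CharP F 2] {M : Gam Q} (h : sig hG M = 1) :
    ∃ g : O Q, Psi Q (iso g) = Psi Q M := by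
  obtain ⟨σ, c, hM⟩ := M.2
  have hσ : σ = 1 := by rw [← sig_eq hG hM]; exact h
  subst hσ
  obtain ⟨d, hd⟩ : ∃ d : F, c = d * d := by
    obtain ⟨d, hd⟩ := FiniteField.isSquare_of_char_two (ringChar.eq F 2) c
    exact ⟨d, hd⟩
  have hd0 : d ≠ 0 := by
    rintro rfl
    exact hM.ne (by rw [hd, mul_zero])
  have h1 : IsSS Q (RingEquiv.refl F) 1 ((scal Q (Units.mk0 d hd0))⁻¹ * M : Gam Q).1 := by
    rw [← map_inv]
    refine ⟨one_ne_zero, add_of_mem (((scal Q (Units.mk0 d hd0)⁻¹ * M : Gam Q)).2), ?_, ?_⟩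
    · intro a v
      show (d⁻¹ : F) • M.1 (a • v) = a • (d⁻¹ : F) • M.1 v
      rw [hM.smul, smul_comm]
      rfl
    · intro v
      show Q ((d⁻¹ : F) • M.1 v) = 1 * Q v
      rw [QuadraticMap.map_smul, hM.form, hd, smul_eq_mul]
      show d⁻¹ * d⁻¹ * (d * d * Q v) = 1 * Q v
      field_simp
  obtain ⟨g, hg⟩ := exists_permO h1
  refine ⟨g, ?_⟩
  have h2 : iso g = (scal Q (Units.mk0 d hd0))⁻¹ * M := Subtype.ext hg
  have h3 : Psi Q (scal Q (Units.mk0 d hd0)) = 1 := by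
    rw [← MonoidHom.mem_ker, ker_Psi hG]
    exact ⟨_, rfl⟩
  rw [h2, map_mul, map_inv, h3, inv_one, one_mul]

/-- in characteristic two an isometry inducing an inner automorphism is in `E Q` -/
theorem mem_E_of_inner (hG : Good Q) [CharP F 2] {g : O Q} {x : ↥(E Q) ⧸ Subgroup.center ↥(E Q)}
    (h : Psi Q (iso g) = MulAut.conj x) : (g : V ≃ₗ[F] V) ∈ E Q := by
  obtain ⟨k, rfl⟩ := QuotientGroup.mk_surjective x
  have hk : (k : V ≃ₗ[F] V) ∈ O Q := E_le_O k.2
  rw [show MulAut.conj (QuotientGroup.mk k) = Psi Q (iso ⟨k.1, hk⟩) from (Psi_iso (g := ⟨k.1, hk⟩) k.2).symm] at h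
  have h1 : (iso ⟨k.1, hk⟩)⁻¹ * iso g ∈ (Psi Q).ker := by
    rw [MonoidHom.mem_ker, map_mul, map_inv, h, inv_mul_cancel]
  rw [ker_Psi hG] at h1
  obtain ⟨a, ha⟩ := h1
  have h2 : ∀ v, k.1 ((a : F) • v) = g.1 v := by
    intro v
    have h3 : iso ⟨k.1, hk⟩ * scal Q a = iso g := by rw [ha, mul_inv_cancel_left]
    exact Equiv.congr_fun (congrArg Subtype.val h3) v
  obtain ⟨x, y, hxy⟩ := hG.exists_hyp
  have h4 : Q (x + y) = 1 := by rw [Q_add, hxy.left, hxy.right, hxy.pair]; simp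
  have h5 : Q (g.1 (x + y)) = 1 := by rw [g.2, h4]
  rw [← h2, (E_le_O k.2 : k.1 ∈ O Q), QuadraticMap.map_smul, h4, smul_eq_mul, mul_one] at h5
  have h6 : (a : F) = 1 := by
    have h7 : ((a : F) - 1) * ((a : F) - 1) = 0 := by
      have h8 : (2 : F) = 0 := CharTwo.two_eq_zero
      linear_combination h5 - (a - 1) * h8
    exact sub_eq_zero.1 (mul_self_eq_zero.1 h7)
  have h7 : g.1 = k.1 := by
    ext v
    rw [← h2, h6, one_smul]
  rw [h7]
  exact k.2

end Abstract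

/-! ### The index of `Ω` -/

section Index

open Cfsg.Agent.ClassicalGeometry.Reflection Cfsg.Agent.ClassicalGeometry.OrthCharTwo
  Cfsg.Agent.ClassicalGeometry.OrthDickson

variable {ι : Type} [Fintype ι] [DecidableEq ι] [Nonempty ι] {F : Type*} [Field F] {Q : QuadraticForm F (ι → F)}

theorem exists_of_mem_O {g : (ι → F) ≃ₗ[F] (ι → F)} (hg : g ∈ O Q) :
    ∃ h : Cfsg.isometryGroup F ⇑Q, isometryHom Q h = g := by
  rw [← isometryHom_range] at hg
  exact hg

theorem mem_E_iff (hG : Good Q) {h : Cfsg.isometryGroup F ⇑Q} :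
    isometryHom Q h ∈ E Q ↔ h ∈ commutator (Cfsg.isometryGroup F ⇑Q) := by
  rw [← hG.commutator_eq_E, ← map_Omega]
  constructor
  · rintro ⟨k, hk, e⟩
    rw [← isometryHom_injective Q e]
    exact hk
  · intro hh
    exact ⟨h, hh, rfl⟩

theorem nondeg' (hQ : Nondeg Q) : (polarBilin Q).Nondegenerate :=
  ⟨hQ, fun y hy => hQ y fun x => by rw [polar_comm]; exact hy x⟩

/-- the product of two isometries outside `E Q` is in `E Q` -/
theorem mul_mem_E [Finite F] (hG : Good Q) (h2 : (2 : F) = 0) (h4 : Fintype.card ι ≠ 4) {g h : (ι → F) ≃ₗ[F] (ι → F)}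
    (hg : g ∈ O Q) (hh : h ∈ O Q) (hg' : g ∉ E Q) (hh' : h ∉ E Q) : g * h ∈ E Q := by
  obtain ⟨g, rfl⟩ := exists_of_mem_O hg
  obtain ⟨h, rfl⟩ := exists_of_mem_O hh
  rw [mem_E_iff hG] at hg' hh'
  rw [← map_mul, mem_E_iff hG]
  exact (Subgroup.mul_mem_iff_of_index_two (index_commutator_two Q h2 (nondeg' hG.nondeg) (Or.inr h4))).2
    ⟨fun h => absurd h hg', fun h => absurd h hh'⟩

/-- a reflection is not in `E Q` -/
theorem refl_notMem [Finite F] (hG : Good Q) (h4 : Fintype.card ι ≠ 4) {g : (ι → F) ≃ₗ[F] (ι → F)} {e : ι → F}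
    (he : Q e ≠ 0) (hge : ∀ v, g v = v - ((Q e)⁻¹ * polar Q e v) • e) : g ∉ E Q := by
  intro hg
  obtain ⟨h, rfl⟩ := exists_of_mem_O (E_le_O hg)
  rw [mem_E_iff hG] at hg
  apply refl_notMem_commutator Q (nondeg' hG.nondeg) (Or.inr h4) e he
  have h1 : reflIso Q e he = h := by
    apply isometryHom_injective Q
    ext v : 1
    rw [hge, isometryHom_apply, coe_reflIso, reflectionMatrix_mulVec]
  rw [h1]
  exact hg

end Index

/-! ### The generator -/

section Gen

variable {F : Type*} [Field F] [Finite F] [CharP F 2] {m : ℕ} {b c : F}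

/-- `Φ` -/
def phi (m : ℕ) (b c : F) (v : (Fin m ⊕ Fin m) ⊕ Fin 2 → F) : (Fin m ⊕ Fin m) ⊕ Fin 2 → F :=
  Sum.elim (fun i => v (.inl i) ^ 2) ![v (.inr 0) ^ 2 + c * v (.inr 1) ^ 2, b * v (.inr 1) ^ 2]

theorem phi_inl (v : (Fin m ⊕ Fin m) ⊕ Fin 2 → F) (i : Fin m ⊕ Fin m) : phi m b c v (.inl i) = v (.inl i) ^ 2 := rfl

theorem phi_zero (v : (Fin m ⊕ Fin m) ⊕ Fin 2 → F) :
    phi m b c v (.inr 0) = v (.inr 0) ^ 2 + c * v (.inr 1) ^ 2 := rfl

theorem phi_one (v : (Fin m ⊕ Fin m) ⊕ Fin 2 → F) : phi m b c v (.inr 1) = b * v (.inr 1) ^ 2 := rfl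

theorem ext_inr {v w : (Fin m ⊕ Fin m) ⊕ Fin 2 → F} (h : ∀ i, v (.inl i) = w (.inl i)) (h0 : v (.inr 0) = w (.inr 0))
    (h1 : v (.inr 1) = w (.inr 1)) : v = w := by
  funext i
  rcases i with i | i
  · exact h i
  · fin_cases i
    · exact h0
    · exact h1

theorem form_eq (v : (Fin m ⊕ Fin m) ⊕ Fin 2 → F) :
    minusForm m F b c v = (∑ i : Fin m, v (.inl (.inl i)) * v (.inl (.inr i))) +
      (v (.inr 0) ^ 2 + b * v (.inr 0) * v (.inr 1) + c * v (.inr 1) ^ 2) := by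
  rw [coe_minusForm]; rfl

theorem form_phi (v : (Fin m ⊕ Fin m) ⊕ Fin 2 → F) :
    minusForm m F b c (phi m b c v) = (minusForm m F b c v) ^ 2 := by
  have h2 : (2 : F) = 0 := CharTwo.two_eq_zero
  rw [form_eq, form_eq, CharTwo.add_sq, CharTwo.sum_sq, phi_zero, phi_one]
  congr 1
  · refine Finset.sum_congr rfl fun i _ => ?_
    rw [phi_inl, phi_inl]; ring
  · linear_combination (v (.inr 0) ^ 2 * (c * v (.inr 1) ^ 2) - (v (.inr 0) ^ 2 * (b * v (.inr 0) * v (.inr 1)) +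
      v (.inr 0) ^ 2 * (c * v (.inr 1) ^ 2) + b * v (.inr 0) * v (.inr 1) * (c * v (.inr 1) ^ 2)) +
      b ^ 2 * c * v (.inr 1) ^ 4) * h2

/-- `Φ` as a semilinear isometry -/
theorem exists_phi (hQ : Nondeg (minusForm m F b c)) {fr : F ≃+* F} (hfr : ∀ x, fr x = x ^ 2) :
    ∃ M : Equiv.Perm ((Fin m ⊕ Fin m) ⊕ Fin 2 → F), IsSS (minusForm m F b c) fr 1 M ∧ ∀ v, M v = phi m b c v := by
  have hadd : ∀ u v, phi m b c (u + v) = phi m b c u + phi m b c v := by
    intro u v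
    refine ext_inr (fun i => ?_) ?_ ?_
    · show (u (.inl i) + v (.inl i)) ^ 2 = u (.inl i) ^ 2 + v (.inl i) ^ 2
      rw [CharTwo.add_sq]
    · show (u (.inr 0) + v (.inr 0)) ^ 2 + c * (u (.inr 1) + v (.inr 1)) ^ 2 =
        (u (.inr 0) ^ 2 + c * u (.inr 1) ^ 2) + (v (.inr 0) ^ 2 + c * v (.inr 1) ^ 2)
      rw [CharTwo.add_sq, CharTwo.add_sq]; ring
    · show b * (u (.inr 1) + v (.inr 1)) ^ 2 = b * u (.inr 1) ^ 2 + b * v (.inr 1) ^ 2
      rw [CharTwo.add_sq]; ring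
  have hsmul : ∀ (a : F) v, phi m b c (a • v) = fr a • phi m b c v := by
    intro a v
    rw [hfr]
    refine ext_inr (fun i => ?_) ?_ ?_
    · show (a * v (.inl i)) ^ 2 = a ^ 2 * v (.inl i) ^ 2
      ring
    · show (a * v (.inr 0)) ^ 2 + c * (a * v (.inr 1)) ^ 2 = a ^ 2 * (v (.inr 0) ^ 2 + c * v (.inr 1) ^ 2)
      ring
    · show b * (a * v (.inr 1)) ^ 2 = a ^ 2 * (b * v (.inr 1) ^ 2)
      ring
  have hform : ∀ v, minusForm m F b c (phi m b c v) = 1 * fr (minusForm m F b c v) := by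
    intro v
    rw [form_phi, hfr, one_mul]
  have h0 : ∀ v, phi m b c v = 0 → v = 0 := by
    intro v hv
    apply hQ
    intro y
    have h1 : polar (minusForm m F b c) (phi m b c v) (phi m b c y) = fr (polar (minusForm m F b c) v y) := by
      simp only [QuadraticMap.polar]
      rw [← hadd, hform, hform, hform, map_sub, map_sub]
      ring
    rw [hv, polar_zero_left] at h1
    exact (map_eq_zero fr).1 h1.symm
  have hinj : Function.Injective (phi (F := F) m b c) := by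
    intro u v h
    have h1 : phi m b c (u - v) + phi m b c v = phi m b c u := by rw [← hadd, sub_add_cancel]
    rw [h] at h1
    have h2 : phi m b c (u - v) = 0 := by
      have : phi m b c (u - v) + phi m b c v = 0 + phi m b c v := by rw [h1, zero_add]
      exact add_right_cancel this
    exact sub_eq_zero.1 (h0 _ h2)
  exact ⟨Equiv.ofBijective (phi m b c) (Finite.injective_iff_bijective.1 hinj), ⟨one_ne_zero, hadd, hsmul, hform⟩,
    fun v => rfl⟩

/-- powers on the hyperbolic part -/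
theorem pow_inl {M : Equiv.Perm ((Fin m ⊕ Fin m) ⊕ Fin 2 → F)} (hM : ∀ v, M v = phi m b c v) (k : ℕ)
    (v : (Fin m ⊕ Fin m) ⊕ Fin 2 → F) (i : Fin m ⊕ Fin m) : (M ^ k) v (.inl i) = v (.inl i) ^ 2 ^ k := by
  induction k with
  | zero => rw [pow_zero, pow_zero, pow_one]; rfl
  | succ k ih =>
    rw [pow_succ', Equiv.Perm.mul_apply, hM, phi_inl, ih, ← pow_mul, ← pow_succ]

/-- powers on the anisotropic part -/
theorem pow_inr {K : Type*} [Field K] [Algebra F K] {ω : K}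
    (hω : ω ^ 2 + algebraMap F K b * ω + algebraMap F K c = 0)
    {M : Equiv.Perm ((Fin m ⊕ Fin m) ⊕ Fin 2 → F)} (hM : ∀ v, M v = phi m b c v) (k : ℕ)
    (v : (Fin m ⊕ Fin m) ⊕ Fin 2 → F) :
    algebraMap F K ((M ^ k) v (.inr 0)) + algebraMap F K ((M ^ k) v (.inr 1)) * ω =
      (algebraMap F K (v (.inr 0)) + algebraMap F K (v (.inr 1)) * ω) ^ 2 ^ k := by
  have hK : CharP K 2 := charP_of_injective_algebraMap (algebraMap F K).injective 2
  have h2 : (2 : K) = 0 := CharTwo.two_eq_zero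
  induction k with
  | zero => rw [pow_zero, pow_zero, pow_one]; rfl
  | succ k ih =>
    rw [pow_succ', Equiv.Perm.mul_apply, hM, phi_zero, phi_one, pow_succ 2 k, pow_mul, ← ih]
    simp only [map_add, map_mul, map_pow]
    linear_combination (algebraMap F K ((M ^ k) v (.inr 1))) ^ 2 * hω -
      ((algebraMap F K ((M ^ k) v (.inr 1))) ^ 2 * ω ^ 2 +
        algebraMap F K ((M ^ k) v (.inr 0)) * algebraMap F K ((M ^ k) v (.inr 1)) * ω) * h2

theorem prod_X_sub_C (F : Type*) [Field F] [Fintype F] :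
    ∏ x : F, (Polynomial.X - Polynomial.C x) = (Polynomial.X ^ Fintype.card F - Polynomial.X : Polynomial F) := by
  have h1 : (Polynomial.X ^ Fintype.card F - Polynomial.X : Polynomial F).Monic :=
    Polynomial.monic_X_pow_sub (by
      rw [Polynomial.degree_X]
      exact_mod_cast Fintype.one_lt_card)
  have h2 := Polynomial.prod_multiset_X_sub_C_of_monic_of_roots_card_eq h1 (by
    rw [FiniteField.roots_X_pow_card_sub_X, FiniteField.X_pow_card_sub_X_natDegree_eq F Fintype.one_lt_card]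
    rfl)
  rw [FiniteField.roots_X_pow_card_sub_X] at h2
  exact h2

/-- a root of the anisotropic form outside `F` -/
theorem exists_root (hab : ∀ z₁ z₂ : F, z₁ ^ 2 + b * z₁ * z₂ + c * z₂ ^ 2 = 0 → z₁ = 0 ∧ z₂ = 0) :
    ∃ ω : AlgebraicClosure F, ω ^ 2 + algebraMap F _ b * ω + algebraMap F _ c = 0 ∧
      ∀ x : F, algebraMap F _ x ≠ ω := by
  obtain ⟨ω, hω⟩ := IsAlgClosed.exists_root
    (Polynomial.C 1 * Polynomial.X ^ 2 + Polynomial.C (algebraMap F (AlgebraicClosure F) b) * Polynomial.X +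
      Polynomial.C (algebraMap F (AlgebraicClosure F) c)) (by
    rw [Polynomial.degree_quadratic one_ne_zero]; decide)
  have hω' : ω ^ 2 + algebraMap F _ b * ω + algebraMap F _ c = 0 := by
    have h1 := hω
    rw [Polynomial.IsRoot.def] at h1
    simpa using h1
  refine ⟨ω, hω', ?_⟩
  rintro x rfl
  have h1 : x ^ 2 + b * x * 1 + c * 1 ^ 2 = 0 := by
    apply (algebraMap F (AlgebraicClosure F)).injective
    rw [map_zero, ← hω']
    simp
  exact one_ne_zero (hab x 1 h1).2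

/-- the `a`-th power of `Φ` is a reflection (`|F| = 2^a`) -/
theorem pow_card (hab : ∀ z₁ z₂ : F, z₁ ^ 2 + b * z₁ * z₂ + c * z₂ ^ 2 = 0 → z₁ = 0 ∧ z₂ = 0)
    {M : Equiv.Perm ((Fin m ⊕ Fin m) ⊕ Fin 2 → F)} (hM : ∀ v, M v = phi m b c v) {a : ℕ}
    (ha : Nat.card F = 2 ^ a) (v : (Fin m ⊕ Fin m) ⊕ Fin 2 → F) :
    (∀ i, (M ^ a) v (.inl i) = v (.inl i)) ∧ (M ^ a) v (.inr 0) = v (.inr 0) + b * v (.inr 1) ∧
      (M ^ a) v (.inr 1) = v (.inr 1) := by
  have hFt := Fintype.ofFinite F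
  have hq : ∀ x : F, x ^ 2 ^ a = x := by
    intro x
    rw [← ha, Nat.card_eq_fintype_card]
    exact FiniteField.pow_card x
  obtain ⟨ω, hω, hωF⟩ := exists_root hab
  have hK : CharP (AlgebraicClosure F) 2 := charP_of_injective_algebraMap (algebraMap F _).injective 2
  have h2 : (2 : AlgebraicClosure F) = 0 := CharTwo.two_eq_zero
  -- `ω ^ q = ω + b`
  have hqK : ∀ x : F, algebraMap F (AlgebraicClosure F) x ^ 2 ^ a = algebraMap F _ x := by
    intro x
    rw [← map_pow, hq]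
  have h1 : (ω ^ 2 ^ a) ^ 2 + algebraMap F _ b * ω ^ 2 ^ a + algebraMap F _ c = 0 := by
    have h3 : (ω ^ 2 + algebraMap F _ b * ω + algebraMap F _ c) ^ 2 ^ a = 0 := by
      rw [hω, zero_pow (by positivity)]
    rw [add_pow_char_pow, add_pow_char_pow, mul_pow, hqK, hqK, ← pow_mul, mul_comm 2, pow_mul] at h3
    exact h3
  have h3 : (ω ^ 2 ^ a - ω) * (ω ^ 2 ^ a - (ω + algebraMap F _ b)) = 0 := by
    linear_combination h1 - hω + (ω ^ 2 - ω ^ 2 ^ a * ω - algebraMap F _ b * ω ^ 2 ^ a + algebraMap F _ b * ω) * h2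
  have h4 : ω ^ 2 ^ a - ω ≠ 0 := by
    intro h5
    have h6 := prod_X_sub_C F
    have h7 := congrArg (Polynomial.aeval ω) h6
    rw [map_prod, map_sub, map_pow, Polynomial.aeval_X, ← Nat.card_eq_fintype_card, ha, h5] at h7
    obtain ⟨x, -, hx⟩ := Finset.prod_eq_zero_iff.1 h7
    rw [map_sub, Polynomial.aeval_X, Polynomial.aeval_C] at hx
    exact hωF x (sub_eq_zero.1 hx).symm
  have h5 : ω ^ 2 ^ a = ω + algebraMap F _ b := sub_eq_zero.1 ((mul_eq_zero.1 h3).resolve_left h4)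
  have h6 := pow_inr hω hM a v
  rw [add_pow_char_pow, mul_pow, hqK, hqK, h5] at h6
  have h7 : (M ^ a) v (.inr 1) = v (.inr 1) := by
    by_contra hne
    have h8 : (M ^ a) v (.inr 1) - v (.inr 1) ≠ 0 := sub_ne_zero.2 hne
    apply hωF ((v (.inr 0) + b * v (.inr 1) - (M ^ a) v (.inr 0)) / ((M ^ a) v (.inr 1) - v (.inr 1)))
    rw [map_div₀, div_eq_iff (by rwa [Ne, map_eq_zero])]
    simp only [map_add, map_sub, map_mul]
    linear_combination -h6
  refine ⟨fun i => by rw [pow_inl hM, hq], ?_, h7⟩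
  rw [h7] at h6
  apply (algebraMap F (AlgebraicClosure F)).injective
  rw [map_add, map_mul]
  linear_combination h6

end Gen

/-! ### The result -/

section Main

variable {F : Type*} [Field F] [Finite F] [CharP F 2] {m : ℕ} {b c : F}

/-- the criterion for a quadratic form -/
theorem gen_of {ι : Type} [Fintype ι] [DecidableEq ι] [Nonempty ι] {Q : QuadraticForm F (ι → F)} (hG : Good Q)
    (hs : Function.Surjective (Psi Q)) (h4 : Fintype.card ι ≠ 4) {fr : F ≃+* F} (hfr : ∀ x, fr x = x ^ 2)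
    (hgen : ∀ σ : F ≃+* F, ∃ m : ℕ, σ = fr ^ m) {M : Equiv.Perm (ι → F)} (hM : IsSS Q fr 1 M) {a : ℕ}
    (hq : ∀ x : F, x ^ 2 ^ a = x) (hT : IsSS Q (RingEquiv.refl F) 1 (M ^ a)) {e : ι → F} (he : Q e ≠ 0)
    (hr : ∀ v, (M ^ a) v = v - ((Q e)⁻¹ * polar Q e v) • e) :
    ∃ φ : MulAut (↥(E Q) ⧸ Subgroup.center ↥(E Q)),
      ∀ α : MulAut (↥(E Q) ⧸ Subgroup.center ↥(E Q)),
        ∃ (k : ℤ) (x : ↥(E Q) ⧸ Subgroup.center ↥(E Q)), α = φ ^ k * MulAut.conj x := by
  have h20 : (2 : F) = 0 := CharTwo.two_eq_zero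
  obtain ⟨f, hf⟩ := exists_hom hG hs
  obtain ⟨g, hg⟩ := exists_permO hT
  obtain ⟨Φ, hΦ⟩ : ∃ Φ : Gam Q, Φ.1 = M := ⟨⟨M, fr, 1, hM⟩, rfl⟩
  rw [← hΦ] at hM
  have hsig : sig hG Φ = fr := sig_eq hG hM
  have hpow : Φ ^ a = iso g := by
    apply Subtype.ext
    rw [SubgroupClass.coe_pow, hΦ]
    exact hg.symm
  refine ⟨Psi _ Φ, exists_gen_of_two f _ a ?_ ?_ ?_ ?_⟩
  · intro α
    obtain ⟨N, rfl⟩ := hs α
    obtain ⟨k, hk⟩ := hgen (sig hG N)
    refine ⟨k, ?_⟩
    rw [hf, hf, hsig, hk, zpow_natCast]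
  · rw [hf, hsig]
    have h1 : ∀ (k : ℕ) (x : F), (fr ^ k) x = x ^ 2 ^ k := by
      intro k
      induction k with
      | zero => intro x; rw [pow_zero, pow_zero, pow_one]; rfl
      | succ k ih => intro x; rw [pow_succ', RingAut.mul_apply, ih, hfr, ← pow_mul, ← pow_succ]
    ext x
    rw [h1, hq]
    rfl
  · intro x hx
    rw [← map_pow, hpow] at hx
    have h1 := mem_E_of_inner hG hx
    have hge : ∀ v, (g : (ι → F) ≃ₗ[F] (ι → F)) v = (M ^ a) v := by
      intro v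
      rw [← hg, permO_apply]
    refine refl_notMem hG h4 he ?_ h1
    intro v
    rw [hge, hr]
  · intro α β hα hβ hα' hβ'
    obtain ⟨N, rfl⟩ := hs α
    obtain ⟨N', rfl⟩ := hs β
    rw [hf] at hα hβ
    obtain ⟨g, hg⟩ := exists_iso hG hα
    obtain ⟨h, hh⟩ := exists_iso hG hβ
    have hgE : (g : (ι → F) ≃ₗ[F] (ι → F)) ∉ E Q := by
      intro h1
      exact hα' _ (by rw [← hg, Psi_iso h1])
    have hhE : (h : (ι → F) ≃ₗ[F] (ι → F)) ∉ E Q := by
      intro h1
      exact hβ' _ (by rw [← hh, Psi_iso h1])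
    have h1 := mul_mem_E hG h20 h4 g.2 h.2 hgE hhE
    refine ⟨QuotientGroup.mk ⟨(g * h).1, h1⟩, ?_⟩
    rw [← hg, ← hh, ← map_mul, ← iso_mul, Psi_iso (g := g * h) h1]

/-- the automorphism group is generated by one element modulo the inner automorphisms -/
theorem exists_gen (hm : 3 ≤ m) (hab : ∀ z₁ z₂ : F, z₁ ^ 2 + b * z₁ * z₂ + c * z₂ ^ 2 = 0 → z₁ = 0 ∧ z₂ = 0) :
    ∃ φ : MulAut (↥(E (minusForm m F b c)) ⧸ Subgroup.center ↥(E (minusForm m F b c))),
      ∀ α : MulAut (↥(E (minusForm m F b c)) ⧸ Subgroup.center ↥(E (minusForm m F b c))),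
        ∃ (k : ℤ) (x : ↥(E (minusForm m F b c)) ⧸ Subgroup.center ↥(E (minusForm m F b c))),
          α = φ ^ k * MulAut.conj x := by
  have hFt := Fintype.ofFinite F
  have h20 : (2 : F) = 0 := CharTwo.two_eq_zero
  have hG : Good (minusForm m F b c) := good_minus (by omega) b c hab
  obtain ⟨fr, hfr, hgen⟩ := exists_frob F
  obtain ⟨M, hM, hMφ⟩ := exists_phi hG.nondeg hfr (m := m) (b := b) (c := c)
  obtain ⟨a, ha⟩ : ∃ a, Nat.card F = 2 ^ a := by
    have : Fact (Nat.Prime 2) := ⟨Nat.prime_two⟩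
    obtain ⟨k, -, hk⟩ := FiniteField.card F 2
    exact ⟨k, by rw [Nat.card_eq_fintype_card, hk]⟩
  have hq : ∀ x : F, x ^ 2 ^ a = x := by
    intro x
    rw [← ha, Nat.card_eq_fintype_card]
    exact FiniteField.pow_card x
  have hQe : minusForm m F b c (Pi.single (.inr 0) 1) = 1 := by
    rw [form_eq]; simp
  -- the reflection
  have hp := pow_card hab hMφ ha
  refine gen_of hG (Cfsg.Agent.AutOrth.Final.surjective_minus hm hab) ?_ hfr hgen hM hq ?_
    (e := Pi.single (.inr 0) 1) (by rw [hQe]; exact one_ne_zero) ?_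
  · simp only [Fintype.card_sum, Fintype.card_fin]; omega
  · refine ⟨one_ne_zero, fun u v => ?_, fun t v => ?_, fun v => ?_⟩
    · obtain ⟨h1, h2, h3⟩ := hp (u + v)
      obtain ⟨k1, k2, k3⟩ := hp u
      obtain ⟨l1, l2, l3⟩ := hp v
      refine ext_inr (fun i => ?_) ?_ ?_
      · rw [h1, Pi.add_apply, Pi.add_apply, k1, l1]
      · rw [h2, Pi.add_apply, Pi.add_apply, Pi.add_apply, k2, l2]; ring
      · rw [h3, Pi.add_apply, Pi.add_apply, k3, l3]
    · obtain ⟨h1, h2, h3⟩ := hp (t • v)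
      obtain ⟨k1, k2, k3⟩ := hp v
      refine ext_inr (fun i => ?_) ?_ ?_
      · rw [h1, Pi.smul_apply, Pi.smul_apply, k1]; rfl
      · rw [h2, Pi.smul_apply, Pi.smul_apply, Pi.smul_apply, k2]
        show t * v (.inr 0) + b * (t * v (.inr 1)) = t * (v (.inr 0) + b * v (.inr 1))
        ring
      · rw [h3, Pi.smul_apply, Pi.smul_apply, k3]; rfl
    · obtain ⟨h1, h2, h3⟩ := hp v
      rw [form_eq, h2, h3]
      simp only [h1]
      show _ = 1 * minusForm m F b c v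
      rw [form_eq]
      linear_combination (b * v (.inr 0) * v (.inr 1) + b ^ 2 * v (.inr 1) ^ 2) * h20
  · intro v
    obtain ⟨k1, k2, k3⟩ := hp v
    have hpol : polar (minusForm m F b c) (Pi.single (.inr 0) 1) v = b * v (.inr 1) := by
      rw [polar_minusForm]
      simp [h20]
    rw [hQe, inv_one, one_mul, hpol]
    refine ext_inr (fun i => ?_) ?_ ?_
    · rw [k1]; simp
    · rw [k2]
      simp only [Pi.sub_apply, Pi.smul_apply, Pi.single_eq_same, smul_eq_mul, mul_one]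
      linear_combination (b * v (.inr 1)) * h20
    · rw [k3]; simp

/-- `Ω⁻_{2m+2}(q)`, `q` even : every `2`-group of automorphisms is cyclic modulo the inner automorphisms -/
theorem cyc2 (hm : 3 ≤ m) (hab : ∀ z₁ z₂ : F, z₁ ^ 2 + b * z₁ * z₂ + c * z₂ ^ 2 = 0 → z₁ = 0 ∧ z₂ = 0) :
    Cyc2 (Cfsg.POmega F (Cfsg.quadFormMinus m F b c)) := by
  have hFt := Fintype.ofFinite F
  obtain ⟨φ, hφ⟩ := exists_gen hm hab
  rw [← coe_minusForm]
  exact Cyc2.of_equiv (pomegaEquiv (good_minus (by omega) b c hab)).symm (cyc2_of_gen hφ)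

/-- the same for `↥(E Q)` -/
theorem cyc2_E (hm : 3 ≤ m) (hab : ∀ z₁ z₂ : F, z₁ ^ 2 + b * z₁ * z₂ + c * z₂ ^ 2 = 0 → z₁ = 0 ∧ z₂ = 0) :
    Cyc2 ↥(E (minusForm m F b c)) := by
  have hFt := Fintype.ofFinite F
  obtain ⟨φ, hφ⟩ := exists_gen hm hab
  have hG : Good (minusForm m F b c) := good_minus (by omega) b c hab
  have hc : Subgroup.center ↥(E (minusForm m F b c)) = ⊥ := by
    rw [eq_bot_iff]
    intro z hz
    rw [Subgroup.mem_bot]
    obtain ⟨c', hc⟩ := Cfsg.Agent.ClassicalGeometry.OrthAut1.center_scalar hG hz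
    obtain ⟨x, y, h⟩ := hG.exists_hyp
    have h4 : minusForm m F b c (x + y) = 1 := by rw [Q_add, h.left, h.right, h.pair]; simp
    have h5 := (E_le_O z.2 : z.1 ∈ O (minusForm m F b c)) (x + y)
    rw [hc, QuadraticMap.map_smul, h4, smul_eq_mul, mul_one] at h5
    have h6 : c' = 1 := by
      have h7 : (c' - 1) * (c' - 1) = 0 := by
        have h8 : (2 : F) = 0 := CharTwo.two_eq_zero
        linear_combination h5 - (c' - 1) * h8
      exact sub_eq_zero.1 (mul_self_eq_zero.1 h7)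
    apply Subtype.ext
    ext v : 1
    rw [hc, h6, one_smul]
    rfl
  exact Cyc2.of_equiv ((QuotientGroup.quotientMulEquivOfEq hc).trans QuotientGroup.quotientBot) (cyc2_of_gen hφ)

end Main

end Cfsg.Agent.KFacts.OutCyc.Minus
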