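import Cfsg.Agent.KFacts.OutCyc.Gen
import Cfsg.Agent.ClassicalGeometry.PSUAutMain
import Cfsg.Agent.LieRecognition.FieldSemilinear

/-!
# `2`-groups of automorphisms of `PSU n F q`, `q` even, are cyclic modulo the inner automorphisms (helper507)

* `rho` : the field automorphism of an automorphism; `pow_inner` : if it is trivial then `α ^ (q + 1)` is inner;
* `exists_hom`, `cyc2`.
-/

set_option autoImplicit false

namespace Cfsg.Agent.KFacts.OutCyc.PSU

open Cfsg Cfsg.Agent.LieClassical.HermBasic Cfsg.Agent.LieClassical.HermSiegel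
  Cfsg.Agent.LieClassical.HermGen Cfsg.Agent.LieClassical.SUBasic Matrix
  Cfsg.Agent.ClassicalGeometry.PSUAutBasic
open Cfsg.Agent.ClassicalGeometry.PSUAutCount (gm semiConj toAut herm_gm act_semiConj herm_semi
  gm_inv_mulVec gm_mulVec_inv gm_mul gm_one gm_inj eq_of_toAut_eq)
open Cfsg.Agent.ClassicalGeometry.PSUAutMain (toAut_pr')
open Cfsg.Agent.KFacts.OutCyc.Gen

variable {F : Type*} [Field F] {q n : ℕ}

/-- the matrix of `ρ(A)` -/
theorem map_mulVec (ρ : F ≃+* F) (A : Matrix (Fin n) (Fin n) F) (v : Fin n → F) :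
    A.map ρ *ᵥ (fun i => ρ (v i)) = fun i => ρ ((A *ᵥ v) i) := by
  funext i
  simp only [mulVec, dotProduct, map_apply, map_sum, map_mul]

theorem eq_map_symm (ρ : F ≃+* F) (v : Fin n → F) : v = fun i => ρ ((fun j => ρ.symm (v j)) i) := by
  funext i; simp

/-- a field automorphism applied to an element of `GU` -/
def gmap (ρ : F ≃+* F) (A : GU n F q) : GU n F q :=
  ⟨GeneralLinearGroup.map (ρ : F →+* F) A.1, by
    refine (Cfsg.Agent.ClassicalGeometry.GUBasic.mem_GU_iff _).2 ?_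
    intro u v
    change hermForm n F q ((gm A).map ρ *ᵥ u) ((gm A).map ρ *ᵥ v) = _
    rw [eq_map_symm ρ u, eq_map_symm ρ v, map_mulVec, map_mulVec]
    have h1 := Cfsg.Agent.ClassicalGeometry.PSUAutCount.herm_map (q := q) ρ
      (gm A *ᵥ fun j => ρ.symm (u j)) (gm A *ᵥ fun j => ρ.symm (v j))
    rw [h1, herm_gm]
    exact (Cfsg.Agent.ClassicalGeometry.PSUAutCount.herm_map (q := q) ρ (fun j => ρ.symm (u j))
      (fun j => ρ.symm (v j))).symm⟩

theorem gm_gmap (ρ : F ≃+* F) (A : GU n F q) : gm (gmap ρ A) = (gm A).map ρ := rfl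

/-- composition -/
theorem toAut_mul (A B : GU n F q) (ρ σ : F ≃+* F) :
    toAut A ρ * toAut B σ = toAut (A * gmap ρ B) (ρ * σ) := by
  ext x
  obtain ⟨g, rfl⟩ := pr_surjective x
  rw [MulAut.mul_apply, toAut_pr', toAut_pr', toAut_pr']
  congr 1
  apply ext_act
  intro y
  obtain ⟨z, rfl⟩ : ∃ z : Fin n → F, y = gm A *ᵥ fun i => ρ ((gm B *ᵥ fun j => σ (z j)) i) := by
    refine ⟨fun j => σ.symm ((gm B⁻¹ *ᵥ fun i => ρ.symm ((gm A⁻¹ *ᵥ y) i)) j), ?_⟩
    have h1 : (fun j => σ (σ.symm ((gm B⁻¹ *ᵥ fun i => ρ.symm ((gm A⁻¹ *ᵥ y) i)) j))) =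
        gm B⁻¹ *ᵥ fun i => ρ.symm ((gm A⁻¹ *ᵥ y) i) := by funext j; simp
    rw [h1, gm_mulVec_inv]
    have h2 : (fun i => ρ (ρ.symm ((gm A⁻¹ *ᵥ y) i))) = gm A⁻¹ *ᵥ y := by funext i; simp
    rw [h2, gm_mulVec_inv]
  rw [act_semiConj, act_semiConj]
  have h1 : (gm A *ᵥ fun i => ρ ((gm B *ᵥ fun j => σ (z j)) i)) =
      gm (A * gmap ρ B) *ᵥ fun i => (ρ * σ) (z i) := by
    rw [gm_mul, gm_gmap, ← mulVec_mulVec]
    congr 1
    exact (map_mulVec ρ (gm B) fun j => σ (z j)).symm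
  have h2 : (gm A *ᵥ fun i => ρ ((gm B *ᵥ fun j => σ (act g z j)) i)) =
      gm (A * gmap ρ B) *ᵥ fun i => (ρ * σ) (act g z i) := by
    rw [gm_mul, gm_gmap, ← mulVec_mulVec]
    congr 1
    exact (map_mulVec ρ (gm B) fun j => σ (act g z j)).symm
  rw [h1, h2, act_semiConj]

/-- conjugation by an element of `SU` -/
theorem toAut_eq_conj {A : GU n F q} {g : SU n F q} (h : gm A = mat g) :
    toAut A 1 = MulAut.conj (pr n F q g) := by
  ext x
  obtain ⟨k, rfl⟩ := pr_surjective x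
  rw [toAut_pr', MulAut.conj_apply, ← map_inv, ← map_mul, ← map_mul]
  congr 1
  apply ext_act
  intro y
  obtain ⟨z, rfl⟩ : ∃ z, y = act g z := ⟨act g⁻¹ y, by rw [← act_mul, mul_inv_cancel, act_one]⟩
  have h1 : act g z = gm A *ᵥ fun i => (1 : F ≃+* F) (z i) := by
    rw [h, act_def]; rfl
  rw [act_mul, act_mul, ← act_mul g⁻¹ g, inv_mul_cancel, act_one]
  rw [h1, act_semiConj]
  have h2 : (gm A *ᵥ fun i => (1 : F ≃+* F) (act k z i)) = act g (act k z) := by
    rw [h, act_def g]; rfl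
  exact h2

theorem toAut_pow (A : GU n F q) (k : ℕ) : toAut A 1 ^ k = toAut (A ^ k) 1 := by
  have hm : ∀ B : GU n F q, gmap (1 : F ≃+* F) B = B := by
    intro B
    apply gm_inj
    rw [gm_gmap]
    ext i j
    rfl
  induction k with
  | zero =>
    rw [pow_zero, pow_zero, toAut_eq_conj (g := (1 : SU n F q)) (by rw [gm_one]; rfl), map_one, map_one]
  | succ k ih => rw [pow_succ, ih, toAut_mul, hm, mul_one, ← pow_succ]

section Fin

variable [Fintype F]

omit [Fintype F] in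
theorem gm_pow (A : GU n F q) (k : ℕ) : gm (A ^ k) = gm A ^ k := by
  induction k with
  | zero => rw [pow_zero, pow_zero, gm_one]
  | succ k ih => rw [pow_succ, gm_mul, ih, pow_succ]

/-- `α ^ (q + 1)` is inner for linear `α` -/
theorem pow_inner (hF : Fintype.card F = q ^ 2) (A : GU n F q) :
    ∃ x, toAut A 1 ^ (q + 1) = MulAut.conj x := by
  have hdet : (gm (A ^ (q + 1))).det = 1 := by
    rw [gm_pow, det_pow]
    exact Cfsg.Agent.ClassicalGeometry.GUBasic.det_pow hF (fun u v => herm_gm A u v)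
  have hmem : (⟨gm (A ^ (q + 1)), hdet⟩ : Matrix.SpecialLinearGroup (Fin n) F) ∈ SU n F q :=
    (LieClassical.SUBasic.mem_SU_iff _).2 (fun u v => herm_gm (A ^ (q + 1)) u v)
  rw [toAut_pow]
  exact ⟨_, toAut_eq_conj (g := ⟨_, hmem⟩) rfl⟩

variable (hF : Fintype.card F = q ^ 2) (hn : 3 ≤ n) (h32 : ¬ (n = 3 ∧ q = 2))

include hF hn h32 in
theorem exists_rho (α : MulAut (PSU n F q)) : ∃ ρ : F ≃+* F, ∃ A : GU n F q, α = toAut A ρ := by
  obtain ⟨A, ρ, h⟩ := Cfsg.Agent.ClassicalGeometry.PSUAutMain.exists_toAut hF hn h32 α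
  exact ⟨ρ, A, h⟩

/-- the field automorphism of an automorphism of `PSU n F q` -/
noncomputable def rho : MulAut (PSU n F q) →* (F ≃+* F) := MonoidHom.mk'
  (fun α => Classical.choose (exists_rho hF hn h32 α)) (by
    intro α β
    obtain ⟨A, hA⟩ := Classical.choose_spec (exists_rho hF hn h32 α)
    obtain ⟨B, hB⟩ := Classical.choose_spec (exists_rho hF hn h32 β)
    obtain ⟨C, hC⟩ := Classical.choose_spec (exists_rho hF hn h32 (α * β))
    have h1 : toAut (A * gmap (Classical.choose (exists_rho hF hn h32 α)) B)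
        (Classical.choose (exists_rho hF hn h32 α) * Classical.choose (exists_rho hF hn h32 β)) =
        toAut C (Classical.choose (exists_rho hF hn h32 (α * β))) := by
      rw [← toAut_mul, ← hA, ← hB, ← hC]
    exact (eq_of_toAut_eq hF hn h1).1)

theorem rho_spec (α : MulAut (PSU n F q)) : ∃ A : GU n F q, α = toAut A (rho hF hn h32 α) :=
  Classical.choose_spec (exists_rho hF hn h32 α)

theorem rho_toAut (A : GU n F q) (ρ : F ≃+* F) : rho hF hn h32 (toAut A ρ) = ρ := by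
  obtain ⟨B, hB⟩ := rho_spec hF hn h32 (toAut A ρ)
  exact (eq_of_toAut_eq hF hn hB).1

theorem rho_conj (x : PSU n F q) : rho hF hn h32 (MulAut.conj x) = 1 := by
  obtain ⟨g, rfl⟩ := pr_surjective x
  have hu : IsUnit (mat g).det := by rw [show (mat g).det = 1 from g.1.2]; exact isUnit_one
  let A : GU n F q := ⟨GeneralLinearGroup.mk'' (mat g) hu, by
    refine (Cfsg.Agent.ClassicalGeometry.GUBasic.mem_GU_iff _).2 ?_
    intro u v
    exact (LieClassical.SUBasic.mem_SU_iff _).1 g.2 u v⟩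
  rw [← toAut_eq_conj (A := A) (g := g) rfl, rho_toAut]

/-- **`2`-groups of automorphisms of `PSU n F q`, `q` even.** -/
theorem exists_hom (h2 : Even q) {P : Subgroup (MulAut (PSU n F q))} (hP : IsPGroup 2 ↥P) :
    ∀ α ∈ P, rho hF hn h32 α = 1 ↔ ∃ x, α = MulAut.conj x := by
  intro α hα
  constructor
  · intro h1
    obtain ⟨A, hA⟩ := rho_spec hF hn h32 α
    rw [h1] at hA
    obtain ⟨x, hx⟩ := pow_inner hF A
    rw [← hA] at hx
    obtain ⟨k, hk⟩ := hP ⟨α, hα⟩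
    have hk' : α ^ 2 ^ k = 1 := congrArg Subtype.val hk
    have hcop : Nat.Coprime (q + 1) (2 ^ k) := by
      apply Nat.Coprime.pow_right
      rw [Nat.coprime_two_right]
      exact h2.add_one
    -- `α = (α ^ (q + 1)) ^ a`
    have hbez : ((q + 1 : ℕ) : ℤ) * Nat.gcdA (q + 1) (2 ^ k) + ((2 ^ k : ℕ) : ℤ) * Nat.gcdB (q + 1) (2 ^ k) = 1 := by
      rw [← Nat.gcd_eq_gcd_ab, Nat.Coprime.gcd_eq_one hcop]; rfl
    refine ⟨x ^ Nat.gcdA (q + 1) (2 ^ k), ?_⟩
    rw [map_zpow, ← hx, ← zpow_natCast, ← _root_.zpow_mul]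
    have h3 : α ^ (((2 ^ k : ℕ) : ℤ) * Nat.gcdB (q + 1) (2 ^ k)) = 1 := by
      rw [_root_.zpow_mul, zpow_natCast, hk', _root_.one_zpow]
    calc α = α ^ (1 : ℤ) := (zpow_one α).symm
      _ = α ^ (((q + 1 : ℕ) : ℤ) * Nat.gcdA (q + 1) (2 ^ k)) *
            α ^ (((2 ^ k : ℕ) : ℤ) * Nat.gcdB (q + 1) (2 ^ k)) := by rw [← _root_.zpow_add, hbez]
      _ = _ := by rw [h3, mul_one]
  · rintro ⟨x, rfl⟩
    exact rho_conj hF hn h32 x

include hF hn h32 in
/-- **`2`-groups of automorphisms of `PSU n F q`, `q` even, are cyclic modulo the inner automorphisms.** -/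
theorem cyc2 (h2 : Even q) : Cyc2 (PSU n F q) := by
  intro P hP
  have : IsCyclic (F ≃+* F) := Cfsg.Agent.LieRecognition.FieldSemilinear.isCyclic_ringAut F
  exact exists_gen_of_hom ((rho hF hn h32).comp P.subtype) fun α hα =>
    (exists_hom hF hn h32 h2 hP α.1 α.2).1 hα

end Fin

end Cfsg.Agent.KFacts.OutCyc.PSU
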