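import Mathlib
import Cfsg.Agent.KFacts.OutCyc.PSU
import Cfsg.Agent.KFacts.OutCyc.Minus
import Cfsg.Agent.Schreier.ClassPOmega
import Cfsg.Agent.Schreier.PSU
import Cfsg.Agent.OddHalf.D7.Cases
import Cfsg.Agent.OddHalf.D7Out.TwChoice
import Cfsg.Agent.OddHalf.Orth.SitOf

/-!
# `CycOut` and `Sch` for `PSU_n(q)` and `Ω⁻_{2n}(q)`, `q` even (helper507)
-/

set_option autoImplicit false
set_option linter.unusedVariables false

namespace Cfsg.Agent.KFacts.OutCyc.Inst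

open Cfsg.Agent.OddHalf.D7Out.TwChoice Cfsg.Agent.KFacts.OutCyc.Gen Cfsg.Agent.LieClassical.OrthCore
  Cfsg.Agent.LieClassical.OrthForms Cfsg.Agent.OddHalf.D7.Cases

universe u

theorem cycOut {Y : Type*} [Group Y] (h : Cyc2 Y) : CycOut Y := h

/-- `PSU_n(q)`, `q` even -/
theorem cycOut_psu {F : Type*} [Field F] {q n : ℕ} [Fintype F] (hF : Fintype.card F = q ^ 2) (hn : 3 ≤ n)
    (h32 : ¬ (n = 3 ∧ q = 2)) (hq : Even q) : CycOut (PSU n F q) := PSU.cyc2 hF hn h32 hq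

section Minus

variable {F : Type*} [Field F] [Finite F] {m : ℕ} {b c : F}

/-- `POmega F (quadFormMinus m F b c)`, `m ≥ 3` -/
theorem cycOut_minus [CharP F 2] (hm : 3 ≤ m) (hab : ∀ z₁ z₂ : F, z₁ ^ 2 + b * z₁ * z₂ + c * z₂ ^ 2 = 0 → z₁ = 0 ∧ z₂ = 0) :
    CycOut (Cfsg.POmega F (Cfsg.quadFormMinus m F b c)) := Minus.cyc2 hm hab

/-- `↥(E Q)` -/
theorem cycOut_E [CharP F 2] (hm : 3 ≤ m) (hab : ∀ z₁ z₂ : F, z₁ ^ 2 + b * z₁ * z₂ + c * z₂ ^ 2 = 0 → z₁ = 0 ∧ z₂ = 0) :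
    CycOut ↥(E (minusForm m F b c)) := Minus.cyc2_E hm hab

/-- the Schreier property of `POmega F (quadFormMinus m F b c)`, `m ≥ 3` -/
theorem sch_minus (hm : 3 ≤ m) (hab : ∀ z₁ z₂ : F, z₁ ^ 2 + b * z₁ * z₂ + c * z₂ ^ 2 = 0 → z₁ = 0 ∧ z₂ = 0) :
    Schreier.Basic.Sch (Cfsg.POmega F (Cfsg.quadFormMinus m F b c)) :=
  Schreier.ClassPOmega.sch_minus (m := m + 1) (by omega) b c hab

/-- the Schreier property of `↥(E Q)` -/
theorem sch_E [CharP F 2] (hm : 3 ≤ m) (hab : ∀ z₁ z₂ : F, z₁ ^ 2 + b * z₁ * z₂ + c * z₂ ^ 2 = 0 → z₁ = 0 ∧ z₂ = 0) :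
    Schreier.Basic.Sch ↥(E (minusForm m F b c)) := by
  have hFt := Fintype.ofFinite F
  have h1 := sch_minus hm hab
  rw [← coe_minusForm] at h1
  have hG := ClassicalGeometry.OrthSemiForms.good_minus (show 2 ≤ m by omega) b c hab
  exact Schreier.Basic.Sch.of_equiv (OddHalf.Orth.SitOf.equivE hG).symm h1

end Minus

theorem charP_of_card {F : Type*} [Field F] [Fintype F] {a : ℕ} (ha : 1 ≤ a) (h : Fintype.card F = 2 ^ a) : CharP F 2 := by
  obtain ⟨p, hp⟩ := CharP.exists F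
  obtain ⟨n, hpp, hn⟩ := FiniteField.card F p
  have h1 : p ∣ 2 ^ a := by
    rw [← h, hn]
    exact dvd_pow_self p n.pos.ne'
  have h2 : p = 2 := (Nat.prime_dvd_prime_iff_eq hpp Nat.prime_two).1 (hpp.dvd_of_dvd_pow h1)
  rwa [← h2]

/-- the family `FamU` -/
theorem famU {X : Type u} [Group X] (h : FamU X) : CycOut X ∧ Schreier.Basic.Sch X := by
  obtain ⟨F, _, _, a, n, ha, hF, hn, ⟨e⟩⟩ := h
  have hF' : Fintype.card F = (2 ^ a) ^ 2 := by rw [hF, ← pow_mul, mul_comm, pow_mul]; norm_num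
  exact ⟨CycOut.of_equiv e.symm (cycOut_psu hF' (by omega) (by omega) (Nat.even_pow.2 ⟨even_two, by omega⟩)),
    Schreier.Basic.Sch.of_equiv e.symm (Schreier.PSU.sch hF' (by omega) (by omega))⟩

/-- the family `FamOMinus` -/
theorem famOMinus {X : Type u} [Group X] (h : FamOMinus X) : CycOut X ∧ Schreier.Basic.Sch X := by
  obtain ⟨F, _, _, a, m, b, c, ha, hF, hm, hab, ⟨e⟩⟩ := h
  have := charP_of_card ha hF
  exact ⟨CycOut.of_equiv e.symm (cycOut_minus (by omega) hab),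
    Schreier.Basic.Sch.of_equiv e.symm (sch_minus (by omega) hab)⟩

end Cfsg.Agent.KFacts.OutCyc.Inst
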