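import Mathlib
import Cfsg.Agent.OddHalf.Orth.KAut
import Cfsg.Agent.OddHalf.Orth.KPar
import Cfsg.Agent.OddHalf.Orth.KFlagMain
import Cfsg.Agent.OddHalf.D7Out.FrGen

/-!
# `FrGen.KF` for `K = ↥(E Q)`, `q` even (helper507)

`U = UK Q e f n` (a Sylow 2-subgroup), `Z = X_⟨e₀,e₁⟩` a long root group.
* `perfect` : a perfect subgroup of `C_K(Z)` containing `Z` (the six vectors `Six`);
* `kf` : the general statement; `kf_minus` : `Ω⁻_{2m+2}(q)`, `m ≥ 3`.
-/

set_option autoImplicit false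
set_option linter.unusedSectionVars false
set_option linter.unusedVariables false

namespace Cfsg.Agent.KFacts.OutCyc.MinusKF

open QuadraticMap Cfsg.Agent.LieClassical.OrthCore Cfsg.Agent.LieClassical.OrthTrans
  Cfsg.Agent.LieClassical.OrthSimple Cfsg.Agent.ClassicalGeometry.OrthAutBasic
  Cfsg.Agent.ClassicalGeometry.OrthAutRoot Cfsg.Agent.OddHalf.Orth Cfsg.Agent.OddHalf.Orth.Face
  Cfsg.Agent.OddHalf.Orth.FlagDef Cfsg.Agent.OddHalf.D7Out.FrGen
open scoped commutatorElement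

variable {F V : Type*} [Field F] [AddCommGroup V] [Module F V] {Q : QuadraticForm F V}

/-! ### The perfect subgroup -/

/-- `u, v` perpendicular singular, `w, w'` a hyperbolic pair perpendicular to them, `a, y` non-singular and
non-perpendicular, in `⟨u, v, w, w'⟩^⊥` -/
structure Six (Q : QuadraticForm F V) (u v w w' a y : V) : Prop where
  qu : Q u = 0
  qv : Q v = 0
  h : Hyp Q w w'
  uv : polar Q u v = 0
  uw : polar Q u w = 0
  uw' : polar Q u w' = 0
  vw : polar Q v w = 0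
  vw' : polar Q v w' = 0
  ua : polar Q u a = 0
  va : polar Q v a = 0
  wa : polar Q w a = 0
  w'a : polar Q w' a = 0
  uy : polar Q u y = 0
  vy : polar Q v y = 0
  wy : polar Q w y = 0
  w'y : polar Q w' y = 0
  qa : Q a ≠ 0
  qy : Q y ≠ 0
  ay : polar Q a y ≠ 0

/-- the vectors of `⟨a, y⟩` -/
def V0 (F : Type*) {V : Type*} [Field F] [AddCommGroup V] [Module F V] (a y : V) : Submodule F V := Submodule.span F {a, y}

theorem mem_V0 {a y x : V} : x ∈ V0 F a y ↔ ∃ s t : F, s • a + t • y = x := Submodule.mem_span_pair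

/-- the generators of the perfect subgroup -/
def gens (Q : QuadraticForm F V) (u v w w' a y : V) : Set ↥(E Q) :=
  {g | (∃ x, (∃ x0 ∈ V0 F a y, ∃ s t : F, x = x0 + s • w + t • w') ∧ (g = tE Q u x ∨ g = tE Q v x)) ∨
    ∃ x ∈ V0 F a y, g = tE Q w x ∨ g = tE Q w' x}

section Two

variable [CharP F 2] {u v w w' a y : V}

theorem Six.swap (S : Six Q u v w w' a y) : Six Q v u w w' a y where
  qu := S.qv
  qv := S.qu
  h := S.h
  uv := polar_zero_of_comm S.uv
  uw := S.vw
  uw' := S.vw'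
  vw := S.uw
  vw' := S.uw'
  ua := S.va
  va := S.ua
  wa := S.wa
  w'a := S.w'a
  uy := S.vy
  vy := S.uy
  wy := S.wy
  w'y := S.w'y
  qa := S.qa
  qy := S.qy
  ay := S.ay

theorem Six.swap' (S : Six Q u v w w' a y) : Six Q u v w' w a y where
  qu := S.qu
  qv := S.qv
  h := S.h.symm
  uv := S.uv
  uw := S.uw'
  uw' := S.uw
  vw := S.vw'
  vw' := S.vw
  ua := S.ua
  va := S.va
  wa := S.w'a
  w'a := S.wa
  uy := S.uy
  vy := S.vy
  wy := S.w'y
  w'y := S.wy
  qa := S.qa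
  qy := S.qy
  ay := S.ay

theorem Six.perp0 (S : Six Q u v w w' a y) {x : V} (hx : x ∈ V0 F a y) :
    polar Q u x = 0 ∧ polar Q v x = 0 ∧ polar Q w x = 0 ∧ polar Q w' x = 0 := by
  obtain ⟨s, t, rfl⟩ := mem_V0.1 hx
  simp only [polar_add_right, polar_smul_right, S.ua, S.va, S.wa, S.w'a, S.uy, S.vy, S.wy, S.w'y, smul_zero,
    add_zero, and_self]

/-- the Hua element -/
noncomputable def hua (Q : QuadraticForm F V) (w w' y : V) : ↥(E Q) :=
  tE Q w ((Q y)⁻¹ • y) * tE Q w' y * tE Q w ((Q y)⁻¹ • y)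

/-- the Hua element acts on `⟨w, w'⟩^⊥` as the reflection in `y` -/
theorem hua_apply {x : V} (h : Hyp Q w w') (wy : polar Q w y = 0) (w'y : polar Q w' y = 0) (qy : Q y ≠ 0)
    (wx : polar Q w x = 0) (w'x : polar Q w' x = 0) : (hua Q w w' y : V ≃ₗ[F] V) x = refl Q y qy x := by
  obtain ⟨κ, hκ⟩ : ∃ κ, κ = (Q y)⁻¹ * polar Q y x := ⟨_, rfl⟩
  have hκ' : Q y * κ = polar Q y x := by rw [hκ, ← mul_assoc, mul_inv_cancel₀ qy, one_mul]
  have h1 : polar Q w ((Q y)⁻¹ • y) = 0 := by rw [polar_smul_right, wy, smul_zero]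
  have e1 : (tE Q w ((Q y)⁻¹ • y) : V ≃ₗ[F] V) x = x + κ • w := by
    rw [coe_tE, T_apply2 h.left h1, wx, polar_smul_left, smul_eq_mul, ← hκ]
    simp
  have p1 : polar Q w' (x + κ • w) = κ := by
    rw [polar_add_right, polar_smul_right, w'x, h.pair', smul_eq_mul, mul_one, zero_add]
  have p2 : polar Q y (x + κ • w) + Q y * κ = 0 := by
    rw [polar_add_right, polar_smul_right, polar_zero_of_comm wy, smul_zero, add_zero, hκ']
    exact CharTwo.add_self_eq_zero _
  have e2 : (tE Q w' y : V ≃ₗ[F] V) (x + κ • w) = (x + κ • y) + κ • w := by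
    rw [coe_tE, T_apply2 h.right w'y, p1, p2, zero_smul, add_zero]
    abel
  have p3 : polar Q w ((x + κ • y) + κ • w) = 0 := by
    rw [polar_add_right, polar_add_right, polar_smul_right, polar_smul_right, wx, wy, h.polar_left]
    simp
  have p4 : polar Q ((Q y)⁻¹ • y) ((x + κ • y) + κ • w) = κ := by
    rw [polar_smul_left, polar_add_right, polar_add_right, polar_smul_right, polar_smul_right, polar_self2,
      polar_zero_of_comm wy, smul_zero, add_zero, add_zero, hκ, smul_eq_mul]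
  have e3 : (tE Q w ((Q y)⁻¹ • y) : V ≃ₗ[F] V) ((x + κ • y) + κ • w) = x + κ • y := by
    rw [coe_tE, T_apply2 h.left h1, p3, p4, mul_zero, add_zero, zero_smul, add_zero, add_assoc, add_self' (F := F),
      add_zero]
  show (tE Q w ((Q y)⁻¹ • y) : V ≃ₗ[F] V) ((tE Q w' y : V ≃ₗ[F] V) ((tE Q w ((Q y)⁻¹ • y) : V ≃ₗ[F] V) x)) = _
  rw [e1, e2, e3, refl_apply2, hκ]

/-- conjugates of the Hua elements -/
theorem hua_conj {g : V ≃ₗ[F] V} (hg : g ∈ O Q) (hw : g w = w) (hw' : g w' = w') :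
    g * (hua Q w w' y : V ≃ₗ[F] V) * g⁻¹ = hua Q w w' (g y) := by
  have h1 : ∀ x, g * T Q w x * g⁻¹ = T Q w (g x) := fun x => by rw [T_conj hg, hw]
  have h2 : ∀ x, g * T Q w' x * g⁻¹ = T Q w' (g x) := fun x => by rw [T_conj hg, hw']
  show g * (T Q w ((Q y)⁻¹ • y) * T Q w' y * T Q w ((Q y)⁻¹ • y)) * g⁻¹ =
    T Q w ((Q (g y))⁻¹ • g y) * T Q w' (g y) * T Q w ((Q (g y))⁻¹ • g y)
  rw [mem_O.1 hg, ← map_smul, ← h1, ← h2]
  group

/-- the product of two reflections is in the group -/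
theorem exists_rho (S : Six Q u v w w' a y) : ∃ ρ ∈ Subgroup.closure (gens Q u v w w' a y), ∃ (c : F) (hb : Q (a + c • y) ≠ 0),
    c ≠ 0 ∧ (ρ : V ≃ₗ[F] V) = refl Q a S.qa * refl Q (a + c • y) hb := by
  have hmem : ∀ z ∈ V0 F a y, hua Q w w' z ∈ Subgroup.closure (gens Q u v w w' a y) := by
    intro z hz
    have h1 : ∀ t : F, tE Q w (t • z) ∈ Subgroup.closure (gens Q u v w w' a y) := fun t =>
      Subgroup.subset_closure (Or.inr ⟨t • z, Submodule.smul_mem _ _ hz, Or.inl rfl⟩)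
    exact mul_mem (mul_mem (h1 _) (Subgroup.subset_closure (Or.inr ⟨z, hz, Or.inr rfl⟩))) (h1 _)
  have ha : a ∈ V0 F a y := Submodule.subset_span (by simp)
  have hy : y ∈ V0 F a y := Submodule.subset_span (by simp)
  have hra : refl Q a S.qa ∈ O Q := refl_mem_O S.qa
  have hb1 : (hua Q w w' y : V ≃ₗ[F] V) a = a + ((Q y)⁻¹ * polar Q y a) • y := by
    rw [hua_apply S.h S.wy S.w'y S.qy S.wa S.w'a, refl_apply2]
  have hQb : Q (a + ((Q y)⁻¹ * polar Q y a) • y) ≠ 0 := by
    rw [← hb1, Q_map]; exact S.qa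
  refine ⟨hua Q w w' (refl Q a S.qa y) * (hua Q w w' y)⁻¹, mul_mem (hmem _ ?_) (inv_mem (hmem _ hy)),
    (Q y)⁻¹ * polar Q y a, hQb, ?_, ?_⟩
  · rw [refl_apply2]
    exact add_mem hy (Submodule.smul_mem _ _ ha)
  · refine mul_ne_zero (inv_ne_zero S.qy) ?_
    rw [polar_comm]; exact S.ay
  · show (hua Q w w' (refl Q a S.qa y) : V ≃ₗ[F] V) * (hua Q w w' y : V ≃ₗ[F] V)⁻¹ = _
    rw [← hua_conj hra (refl_fix _ (polar_zero_of_comm S.wa)) (refl_fix _ (polar_zero_of_comm S.w'a)), refl_inv,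
      mul_assoc, mul_assoc, ← mul_assoc _ _ (hua Q w w' y : V ≃ₗ[F] V)⁻¹]
    congr 1
    have h1 := refl_conj (mem_O' (hua Q w w' y)) S.qa (by rw [hb1]; exact hQb)
    rw [h1]
    congr 1

/-- the commutator of `g` with a Siegel element whose singular vector is fixed -/
theorem comm_tE {g : ↥(E Q)} {p x : V} (hp : Q p = 0) (hpx : polar Q p x = 0) (hg : (g : V ≃ₗ[F] V) p = p) :
    ⁅g, tE Q p x⁆ = tE Q p ((g : V ≃ₗ[F] V) x + x) := by
  have h1 : polar Q p ((g : V ≃ₗ[F] V) x) = 0 := by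
    conv_lhs => rw [← hg]
    rw [polar_map', hpx]
  rw [commutatorElement_def, tE_conj, hg, tE_inv hp hpx, tE_mul hp h1 hpx]

/-- solving `ρ x + x = z` in `⟨a, y⟩` -/
theorem exists_solve (S : Six Q u v w w' a y) {c : F} (hc : c ≠ 0) (hb : Q (a + c • y) ≠ 0) {z : V}
    (hz : z ∈ V0 F a y) : ∃ x ∈ V0 F a y, refl Q a S.qa (refl Q (a + c • y) hb x) + x = z := by
  obtain ⟨b, hbdef⟩ : ∃ b, b = a + c • y := ⟨_, rfl⟩
  have hqa := S.qa
  have hab : polar Q a b = c * polar Q a y := by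
    rw [hbdef, polar_add_right, polar_smul_right, polar_self2, zero_add, smul_eq_mul]
  have hab0 : polar Q a b ≠ 0 := by rw [hab]; exact mul_ne_zero hc S.ay
  have hba : polar Q b a = polar Q a b := polar_comm _ _ _
  simp only [← hbdef] at hb ⊢
  obtain ⟨s, t, rfl⟩ := mem_V0.1 hz
  -- `z = λ b + μ a`
  have hz' : s • a + t • y = (t * c⁻¹) • b + (s + t * c⁻¹) • a := by
    rw [hbdef, smul_add, smul_smul, mul_assoc, inv_mul_cancel₀ hc, mul_one, add_smul]
    have h1 := add_self' (F := F) ((t * c⁻¹) • a)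
    calc s • a + t • y = s • a + t • y + ((t * c⁻¹) • a + (t * c⁻¹) • a) := by rw [h1, add_zero]
      _ = _ := by abel
  obtain ⟨l, hl⟩ : ∃ l, l = t * c⁻¹ := ⟨_, rfl⟩
  obtain ⟨μ, hμ⟩ : ∃ μ, μ = s + l := ⟨_, rfl⟩
  rw [hz', ← hl, ← hμ]
  -- `x = p a + r b`, `(b, x) = p (a, b)`, `(a, x) = r (a, b)`
  obtain ⟨p, hp⟩ : ∃ p, p = l * Q b * (polar Q a b)⁻¹ := ⟨_, rfl⟩
  obtain ⟨r, hr⟩ : ∃ r, r = Q a * (μ + l * ((Q a)⁻¹ * polar Q a b)) * (polar Q a b)⁻¹ := ⟨_, rfl⟩
  refine ⟨p • a + r • b, ?_, ?_⟩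
  · have ha : a ∈ V0 F a y := Submodule.subset_span (by simp)
    have hy : y ∈ V0 F a y := Submodule.subset_span (by simp)
    refine add_mem (Submodule.smul_mem _ _ ha) (Submodule.smul_mem _ _ ?_)
    rw [hbdef]
    exact add_mem ha (Submodule.smul_mem _ _ hy)
  · have h1 : polar Q b (p • a + r • b) = l * Q b := by
      rw [polar_add_right, polar_smul_right, polar_smul_right, polar_self2, hba, smul_zero, add_zero, hp, smul_eq_mul,
        mul_assoc, inv_mul_cancel₀ hab0, mul_one]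
    have h2 : polar Q a (p • a + r • b + l • b) = μ * Q a := by
      rw [polar_add_right, polar_add_right, polar_smul_right, polar_smul_right, polar_smul_right, polar_self2, hr,
        smul_zero, zero_add, smul_eq_mul, smul_eq_mul]
      have h20 : (2 : F) = 0 := CharTwo.two_eq_zero
      field_simp
      linear_combination l * polar Q a b * h20
    have e1 : refl Q b hb (p • a + r • b) = p • a + r • b + l • b := by
      rw [refl_apply2, h1]
      congr 2
      field_simp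
    rw [e1, refl_apply2, h2]
    have e2 : (Q a)⁻¹ * (μ * Q a) = μ := by field_simp
    rw [e2]
    have h3 := add_self' (F := F) (p • a + r • b)
    calc p • a + r • b + l • b + μ • a + (p • a + r • b) = (p • a + r • b + (p • a + r • b)) + (l • b + μ • a) := by abel
      _ = _ := by rw [h3, zero_add]

theorem gens_swap' {u v w w' a y : V} : gens Q u v w w' a y ⊆ gens Q u v w' w a y := by
  rintro g (⟨x, ⟨x0, hx0, s, t, rfl⟩, hg⟩ | ⟨x, hx, hg⟩)
  · exact Or.inl ⟨_, ⟨x0, hx0, t, s, by abel⟩, hg⟩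
  · exact Or.inr ⟨x, hx, hg.symm⟩

theorem gens_swap {u v w w' a y : V} : gens Q u v w w' a y ⊆ gens Q v u w w' a y := by
  rintro g (⟨x, hx, hg⟩ | h)
  · exact Or.inl ⟨x, hx, hg.symm⟩
  · exact Or.inr h

/-- (step 2) the elements `tE w x`, `x ∈ ⟨a, y⟩`, are commutators -/
theorem w_mem (S : Six Q u v w w' a y) {z : V} (hz : z ∈ V0 F a y) :
    tE Q w z ∈ ⁅Subgroup.closure (gens Q u v w w' a y), Subgroup.closure (gens Q u v w w' a y)⁆ := by
  obtain ⟨ρ, hρ, c, hb, hc, e⟩ := exists_rho S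
  obtain ⟨x, hx, hxz⟩ := exists_solve S hc hb hz
  have hwb : polar Q (a + c • y) w = 0 := by
    rw [polar_comm, polar_add_right, polar_smul_right, S.wa, S.wy, smul_zero, add_zero]
  have h1 : (ρ : V ≃ₗ[F] V) w = w := by
    rw [e]
    show refl Q a S.qa (refl Q (a + c • y) hb w) = w
    rw [refl_fix hb hwb, refl_fix _ (polar_zero_of_comm S.wa)]
  have h2 : ⁅ρ, tE Q w x⁆ = tE Q w z := by
    rw [comm_tE S.h.left (S.perp0 hx).2.2.1 h1, e, ← hxz]
    rfl
  rw [← h2]
  exact Subgroup.commutator_mem_commutator hρ (Subgroup.subset_closure (Or.inr ⟨x, hx, Or.inl rfl⟩))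

theorem w'_mem (S : Six Q u v w w' a y) {z : V} (hz : z ∈ V0 F a y) :
    tE Q w' z ∈ ⁅Subgroup.closure (gens Q u v w w' a y), Subgroup.closure (gens Q u v w w' a y)⁆ := by
  have h1 := Subgroup.closure_mono (gens_swap' (Q := Q) (u := u) (v := v) (w := w') (w' := w) (a := a) (y := y))
  exact Subgroup.commutator_mono h1 h1 (w_mem S.swap' hz)

/-- (step 3) the elements `tE u x` are commutators -/
theorem u_mem (S : Six Q u v w w' a y) {x0 : V} (hx0 : x0 ∈ V0 F a y) (s t : F) :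
    tE Q u (x0 + s • w + t • w') ∈
      ⁅Subgroup.closure (gens Q u v w w' a y), Subgroup.closure (gens Q u v w w' a y)⁆ := by
  -- `tE u (κ w)`
  have key : ∀ {w w' : V} (S : Six Q u v w w' a y) (κ : F),
      tE Q u (κ • w) ∈ ⁅Subgroup.closure (gens Q u v w w' a y), Subgroup.closure (gens Q u v w w' a y)⁆ := by
    intro w w' S κ
    have ha : a ∈ V0 F a y := Submodule.subset_span (by simp)
    have hy : y ∈ V0 F a y := Submodule.subset_span (by simp)
    have hu : ((tE Q w a : ↥(E Q)) : V ≃ₗ[F] V) u = u := by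
      rw [coe_tE, T_apply2 S.h.left S.wa, polar_zero_of_comm S.uw, polar_zero_of_comm S.ua]
      simp
    have h1 := comm_tE (g := tE Q w a) S.qu (x := (κ * (polar Q a y)⁻¹) • y)
      (by rw [polar_smul_right, S.uy, smul_zero]) hu
    have h2 : ((tE Q w a : ↥(E Q)) : V ≃ₗ[F] V) ((κ * (polar Q a y)⁻¹) • y) + (κ * (polar Q a y)⁻¹) • y = κ • w := by
      rw [coe_tE, T_apply2 S.h.left S.wa, polar_smul_right, polar_smul_right, S.wy, smul_eq_mul, smul_eq_mul, mul_zero,
        mul_zero, zero_smul, add_zero, add_zero, mul_assoc, inv_mul_cancel₀ S.ay, mul_one]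
      have h3 := add_self' (F := F) ((κ * (polar Q a y)⁻¹) • y)
      calc (κ * (polar Q a y)⁻¹) • y + κ • w + (κ * (polar Q a y)⁻¹) • y =
          ((κ * (polar Q a y)⁻¹) • y + (κ * (polar Q a y)⁻¹) • y) + κ • w := by abel
        _ = _ := by rw [h3, zero_add]
    rw [h2] at h1
    rw [← h1]
    refine Subgroup.commutator_mem_commutator (Subgroup.subset_closure (Or.inr ⟨a, ha, Or.inl rfl⟩))
      (Subgroup.subset_closure (Or.inl ⟨_, ⟨_, Submodule.smul_mem _ (κ * (polar Q a y)⁻¹) hy, 0, 0, ?_⟩, Or.inl rfl⟩))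
    rw [zero_smul, zero_smul, add_zero, add_zero]
  have hsw := Subgroup.closure_mono (gens_swap' (Q := Q) (u := u) (v := v) (w := w') (w' := w) (a := a) (y := y))
  have key' : tE Q u (t • w') ∈
      ⁅Subgroup.closure (gens Q u v w w' a y), Subgroup.closure (gens Q u v w w' a y)⁆ :=
    Subgroup.commutator_mono hsw hsw (key S.swap' t)
  -- `tE u (x0 + Q x0 w)`
  have h0 : tE Q u (x0 + Q x0 • w) ∈
      ⁅Subgroup.closure (gens Q u v w w' a y), Subgroup.closure (gens Q u v w w' a y)⁆ := by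
    have hu : ((tE Q w x0 : ↥(E Q)) : V ≃ₗ[F] V) u = u := by
      rw [coe_tE, T_apply2 S.h.left (S.perp0 hx0).2.2.1, polar_zero_of_comm S.uw, polar_zero_of_comm (S.perp0 hx0).1]
      simp
    have h1 := comm_tE (g := tE Q w x0) S.qu (x := w') S.uw' hu
    have h2 : ((tE Q w x0 : ↥(E Q)) : V ≃ₗ[F] V) w' + w' = x0 + Q x0 • w := by
      rw [coe_tE, T_apply2 S.h.left (S.perp0 hx0).2.2.1, S.h.pair, polar_zero_of_comm (S.perp0 hx0).2.2.2, one_smul,
        mul_one, zero_add]
      have h3 := add_self' (F := F) w'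
      calc w' + x0 + Q x0 • w + w' = (w' + w') + (x0 + Q x0 • w) := by abel
        _ = _ := by rw [h3, zero_add]
    rw [h2] at h1
    rw [← h1]
    refine Subgroup.commutator_mem_commutator (Subgroup.subset_closure (Or.inr ⟨x0, hx0, Or.inl rfl⟩))
      (Subgroup.subset_closure (Or.inl ⟨_, ⟨0, zero_mem _, 0, 1, ?_⟩, Or.inl rfl⟩))
    rw [zero_smul, one_smul, zero_add, zero_add]
  have p0 : polar Q u (x0 + Q x0 • w) = 0 := by
    rw [polar_add_right, polar_smul_right, (S.perp0 hx0).1, S.uw, smul_zero, add_zero]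
  have p1 : ∀ κ : F, polar Q u (κ • w) = 0 := fun κ => by rw [polar_smul_right, S.uw, smul_zero]
  have p2 : ∀ κ : F, polar Q u (κ • w') = 0 := fun κ => by rw [polar_smul_right, S.uw', smul_zero]
  have h3 := mul_mem (mul_mem h0 (key S (Q x0 + s))) key'
  rw [tE_mul S.qu p0 (p1 _), tE_mul S.qu (by rw [polar_add_right, p0, p1, add_zero]) (p2 _)] at h3
  have h4 : x0 + Q x0 • w + (Q x0 + s) • w + t • w' = x0 + s • w + t • w' := by
    rw [add_smul]
    have h5 := add_self' (F := F) (Q x0 • w)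
    calc x0 + Q x0 • w + (Q x0 • w + s • w) + t • w' = x0 + (Q x0 • w + Q x0 • w) + s • w + t • w' := by abel
      _ = _ := by rw [h5, add_zero]
  rwa [h4] at h3

/-- the group is perfect -/
theorem perfect (S : Six Q u v w w' a y) :
    ⁅Subgroup.closure (gens Q u v w w' a y), Subgroup.closure (gens Q u v w w' a y)⁆ =
      Subgroup.closure (gens Q u v w w' a y) := by
  apply le_antisymm
  · rw [Subgroup.commutator_le]
    intro g hg h hh
    rw [commutatorElement_def]
    exact mul_mem (mul_mem (mul_mem hg hh) (inv_mem hg)) (inv_mem hh)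
  · rw [Subgroup.closure_le]
    have hsw := Subgroup.closure_mono (gens_swap (Q := Q) (u := v) (v := u) (w := w) (w' := w') (a := a) (y := y))
    rintro g (⟨x, ⟨x0, hx0, s, t, rfl⟩, rfl | rfl⟩ | ⟨x, hx, rfl | rfl⟩)
    · exact u_mem S hx0 s t
    · exact Subgroup.commutator_mono hsw hsw (u_mem S.swap hx0 s t)
    · exact w_mem S hx
    · exact w'_mem S hx

/-- the long root group `X_⟨u,v⟩` is in the group -/
theorem z_mem (S : Six Q u v w w' a y) (κ : F) : tE Q u (κ • v) ∈ Subgroup.closure (gens Q u v w w' a y) := by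
  have p1 : polar Q u (κ • w) = 0 := by rw [polar_smul_right, S.uw, smul_zero]
  have h1 : ((tE Q u (κ • w) : ↥(E Q)) : V ≃ₗ[F] V) v = v := by
    rw [coe_tE, T_apply2 S.qu p1, S.uv, polar_smul_left, polar_zero_of_comm S.vw]
    simp
  have h2 : ((tE Q u (κ • w) : ↥(E Q)) : V ≃ₗ[F] V) w' + w' = κ • u := by
    rw [coe_tE, T_apply2 S.qu p1, S.uw', polar_smul_left, S.h.pair, zero_smul, add_zero, smul_eq_mul, mul_one, mul_zero,
      add_zero]
    have h3 := add_self' (F := F) w'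
    calc w' + κ • u + w' = (w' + w') + κ • u := by abel
      _ = _ := by rw [h3, zero_add]
  have h3 := comm_tE (g := tE Q u (κ • w)) S.qv (x := w') S.vw' h1
  rw [h2] at h3
  have hku : Q (κ • u) = 0 := by rw [QuadraticMap.map_smul, S.qu, smul_zero]
  have hkuv : polar Q v (κ • u) = 0 := by rw [polar_smul_right, polar_zero_of_comm S.uv, smul_zero]
  have h4 : tE Q v (κ • u) = tE Q u (κ • v) := by
    rw [tE_swap S.qv hku hkuv, tE_smul_left _ S.qu S.uv]
  rw [← h4, ← h3]
  have hu : tE Q u (κ • w) ∈ Subgroup.closure (gens Q u v w w' a y) :=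
    Subgroup.subset_closure (Or.inl ⟨_, ⟨0, zero_mem _, κ, 0, by rw [zero_smul, add_zero, zero_add]⟩, Or.inl rfl⟩)
  have hv : tE Q v w' ∈ Subgroup.closure (gens Q u v w w' a y) :=
    Subgroup.subset_closure (Or.inl ⟨_, ⟨0, zero_mem _, 0, 1, by rw [zero_smul, one_smul, zero_add, zero_add]⟩,
      Or.inr rfl⟩)
  rw [commutatorElement_def]
  exact mul_mem (mul_mem (mul_mem hu hv) (inv_mem hu)) (inv_mem hv)

/-- the group centralises `X_⟨u,v⟩` -/
theorem z_comm (S : Six Q u v w w' a y) (κ : F) {g : ↥(E Q)} (hg : g ∈ Subgroup.closure (gens Q u v w w' a y)) :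
    g * tE Q u (κ • v) = tE Q u (κ • v) * g := by
  have h1 : Subgroup.closure (gens Q u v w w' a y) ≤ Subgroup.centralizer ({tE Q u (κ • v)} : Set ↥(E Q)) := by
    rw [Subgroup.closure_le]
    have key : ∀ {p x : V}, Q p = 0 → polar Q p x = 0 → polar Q p u = 0 → polar Q p v = 0 → polar Q x u • p = 0 →
        polar Q x v • p = 0 → tE Q p x ∈ Subgroup.centralizer ({tE Q u (κ • v)} : Set ↥(E Q)) := by
      intro p x hp hpx h1 h2 h3 h4
      rw [Subgroup.mem_centralizer_singleton_iff]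
      apply tE_comm_of
      · rw [T_apply2 hp hpx, h1, zero_smul, mul_zero, add_zero, add_zero, h3, add_zero]
      · rw [map_smul]
        congr 1
        rw [T_apply2 hp hpx, h2, zero_smul, mul_zero, add_zero, add_zero, h4, add_zero]
    have hu := polar_self_of_sing S.qu
    have hv := polar_self_of_sing S.qv
    rintro g (⟨x, ⟨x0, hx0, s, t, rfl⟩, rfl | rfl⟩ | ⟨x, hx, rfl | rfl⟩)
    · obtain ⟨k1, k2, -, -⟩ := S.perp0 hx0
      refine key S.qu ?_ hu S.uv ?_ ?_
      · simp only [polar_add_right, polar_smul_right, k1, S.uw, S.uw', smul_zero, add_zero]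
      · rw [polar_comm]
        simp only [polar_add_right, polar_smul_right, k1, S.uw, S.uw', smul_zero, add_zero, zero_smul]
      · rw [polar_comm]
        simp only [polar_add_right, polar_smul_right, k2, S.vw, S.vw', smul_zero, add_zero, zero_smul]
    · obtain ⟨k1, k2, -, -⟩ := S.perp0 hx0
      refine key S.qv ?_ (polar_zero_of_comm S.uv) hv ?_ ?_
      · simp only [polar_add_right, polar_smul_right, k2, S.vw, S.vw', smul_zero, add_zero]
      · rw [polar_comm]
        simp only [polar_add_right, polar_smul_right, k1, S.uw, S.uw', smul_zero, add_zero, zero_smul]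
      · rw [polar_comm]
        simp only [polar_add_right, polar_smul_right, k2, S.vw, S.vw', smul_zero, add_zero, zero_smul]
    · obtain ⟨k1, k2, k3, -⟩ := S.perp0 hx
      exact key S.h.left k3 (polar_zero_of_comm S.uw) (polar_zero_of_comm S.vw)
        (by rw [polar_zero_of_comm k1, zero_smul]) (by rw [polar_zero_of_comm k2, zero_smul])
    · obtain ⟨k1, k2, -, k4⟩ := S.perp0 hx
      exact key S.h.right k4 (polar_zero_of_comm S.uw') (polar_zero_of_comm S.vw')
        (by rw [polar_zero_of_comm k1, zero_smul]) (by rw [polar_zero_of_comm k2, zero_smul])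
  exact Subgroup.mem_centralizer_singleton_iff.1 (h1 hg)

end Two

/-! ### The flag group -/

section Flag

variable [CharP F 2] {n : ℕ} {e f : ℕ → V}

/-- `X_⟨e₀,e₁⟩` -/
noncomputable abbrev Z (hF : Flag Q n e f) (hn : 3 ≤ n) : Subgroup ↥(E Q) :=
  X Q (e 0) (e 1) (hF.hyp 0 (by omega)).left (hF.ee 0 1 (by omega) (by omega) (by decide))

theorem Z_le (hF : Flag Q n e f) (hn : 3 ≤ n) : Z hF hn ≤ UK Q e f n := by
  intro g hg
  obtain ⟨c, rfl⟩ := mem_X.1 hg
  refine (le_iSup₂_of_le 0 (by omega) le_rfl : RK Q e f 0 ≤ UK Q e f n) (Subgroup.subset_closure ⟨c • e 1, ?_, rfl⟩)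
  intro k hk
  obtain rfl : k = 0 := by omega
  have h1 := hF.ee 0 1 (by omega) (by omega) (by decide)
  have h2 := hF.ef 1 0 (by omega) (by omega) (by decide)
  rw [polar_smul_right, polar_smul_right, h1, polar_zero_of_comm h2]
  simp

theorem Z_comm (hF : Flag Q n e f) (hn : 3 ≤ n) {z g : ↥(E Q)} (hz : z ∈ Z hF hn) (hg : g ∈ UK Q e f n) :
    g * z = z * g := by
  obtain ⟨c, rfl⟩ := mem_X.1 hz
  have h01 := hF.ee 0 1 (by omega) (by omega) (by decide)
  have q0 := (hF.hyp 0 (by omega)).left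
  have h1 : UK Q e f n ≤ Subgroup.centralizer ({tE Q (e 0) (c • e 1)} : Set ↥(E Q)) := by
    refine iSup_le fun i => iSup_le fun hi => ?_
    rw [RK, Subgroup.closure_le]
    rintro _ ⟨y, hy, rfl⟩
    rw [SetLike.mem_coe, Subgroup.mem_centralizer_singleton_iff]
    rcases Nat.eq_zero_or_pos i with rfl | hi0
    · exact tE_comm q0 (hy 0 le_rfl).1 (by rw [polar_smul_right, h01, smul_zero])
    · have qi := (hF.hyp i hi).left
      have hei : ∀ k ≤ 1, polar Q (e i) (e k) = 0 := by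
        intro k hk
        by_cases hik : i = k
        · rw [← hik]; exact polar_self_of_sing qi
        · exact hF.ee i k hi (by omega) hik
      have hyk : ∀ k ≤ 1, polar Q y (e k) = 0 := fun k hk => polar_zero_of_comm (hy k (by omega)).1
      apply tE_comm_of
      · rw [T_apply2 qi (hy i le_rfl).1, hei 0 (by omega), hyk 0 (by omega)]
        simp
      · rw [map_smul, T_apply2 qi (hy i le_rfl).1, hei 1 (by omega), hyk 1 (by omega)]
        simp
  exact Subgroup.mem_centralizer_singleton_iff.1 (h1 hg)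

/-- `R_{e₀} ≤ U` -/
theorem R_le (hF : Flag Q n e f) (hn : 3 ≤ n) {x : V} (hx : polar Q (e 0) x = 0) : tE Q (e 0) x ∈ UK Q e f n := by
  have h0 := hF.hyp 0 (by omega)
  have h1 : tE Q (e 0) x = tE Q (e 0) (x + polar Q (f 0) x • e 0) := (tE_add_smul h0.left hx _).symm
  rw [h1]
  refine (le_iSup₂_of_le 0 (by omega) le_rfl : RK Q e f 0 ≤ UK Q e f n) (Subgroup.subset_closure ⟨_, ?_, rfl⟩)
  intro k hk
  obtain rfl : k = 0 := by omega
  constructor
  · rw [polar_add_right, polar_smul_right, hx, h0.polar_left, smul_zero, add_zero]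
  · rw [polar_add_right, polar_smul_right, h0.pair', smul_eq_mul, mul_one]
    exact CharTwo.add_self_eq_zero _

/-- `tE e₁ w ∈ U` for `w ⊥ e₀, e₁` -/
theorem R1_le (hF : Flag Q n e f) (hn : 3 ≤ n) {x : V} (hx : polar Q (e 0) x = 0) (hx' : polar Q (e 1) x = 0) :
    tE Q (e 1) x ∈ UK Q e f n := by
  have h0 := hF.hyp 0 (by omega)
  have h1 := hF.hyp 1 (by omega)
  have h01 := hF.ee 0 1 (by omega) (by omega) (by decide)
  have h10 := hF.ee 1 0 (by omega) (by omega) (by decide)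
  have e01 := hF.ef 0 1 (by omega) (by omega) (by decide)
  have e10 := hF.ef 1 0 (by omega) (by omega) (by decide)
  obtain ⟨y, hy⟩ : ∃ y, y = x + polar Q (f 0) x • e 0 + polar Q (f 1) x • e 1 := ⟨_, rfl⟩
  have hy1 : y ∈ Yv Q e f 1 := by
    intro k hk
    rcases Nat.le_one_iff_eq_zero_or_eq_one.1 hk with rfl | rfl
    · constructor
      · rw [hy, polar_add_right, polar_add_right, polar_smul_right, polar_smul_right, hx, h0.polar_left, h01]
        simp
      · rw [hy, polar_add_right, polar_add_right, polar_smul_right, polar_smul_right, h0.pair',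
          polar_zero_of_comm e10, smul_zero, add_zero, smul_eq_mul, mul_one]
        exact CharTwo.add_self_eq_zero _
    · constructor
      · rw [hy, polar_add_right, polar_add_right, polar_smul_right, polar_smul_right, hx', h1.polar_left, h10]
        simp
      · rw [hy, polar_add_right, polar_add_right, polar_smul_right, polar_smul_right, h1.pair',
          polar_zero_of_comm e01, smul_zero, add_zero, smul_eq_mul, mul_one]
        exact CharTwo.add_self_eq_zero _
  have h2 : tE Q (e 1) y ∈ UK Q e f n :=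
    (le_iSup₂_of_le 1 (by omega) le_rfl : RK Q e f 1 ≤ UK Q e f n) (Subgroup.subset_closure ⟨_, hy1, rfl⟩)
  have hye : polar Q (e 1) y = 0 := (hy1 1 le_rfl).1
  -- `tE e₁ (c e₀)`
  have h3 : tE Q (e 1) (polar Q (f 0) x • e 0) ∈ UK Q e f n := by
    have hq : Q (polar Q (f 0) x • e 0) = 0 := by rw [QuadraticMap.map_smul, h0.left, smul_zero]
    have hp : polar Q (e 1) (polar Q (f 0) x • e 0) = 0 := by rw [polar_smul_right, h10, smul_zero]
    rw [tE_swap h1.left hq hp, tE_smul_left _ h0.left h01]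
    exact Z_le hF hn (mem_X.2 ⟨_, rfl⟩)
  have h4 := mul_mem h2 h3
  have hp : polar Q (e 1) (polar Q (f 0) x • e 0) = 0 := by rw [polar_smul_right, h10, smul_zero]
  rw [tE_mul h1.left hye hp, ← tE_add_smul h1.left (by rw [polar_add_right, hye, hp, add_zero]) (polar Q (f 1) x)] at h4
  have h5 : y + polar Q (f 0) x • e 0 + polar Q (f 1) x • e 1 = x := by
    rw [hy]
    have h6 := add_self' (F := F) (polar Q (f 0) x • e 0)
    have h7 := add_self' (F := F) (polar Q (f 1) x • e 1)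
    calc _ = x + (polar Q (f 0) x • e 0 + polar Q (f 0) x • e 0) + (polar Q (f 1) x • e 1 + polar Q (f 1) x • e 1) := by
          abel
      _ = x := by rw [h6, h7, add_zero, add_zero]
  rwa [h5] at h4

/-- the automorphisms which centralise `U` -/
theorem aut (hK : KFacts Q) [Finite F] (hd : 8 ≤ Module.finrank F V) (h4 : NoFour Q) (hF : Flag Q n e f) (hn : 3 ≤ n)
    {α : MulAut ↥(E Q)} (hα : ∀ u ∈ UK Q e f n, α u = u) : ∃ z ∈ Z hF hn, ∀ x, α x = z * x * z⁻¹ := by
  have h0 := hF.hyp 0 (by omega)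
  have h1 := hF.hyp 1 (by omega)
  have h01 := hF.ee 0 1 (by omega) (by omega) (by decide)
  have h10 := hF.ee 1 0 (by omega) (by omega) (by decide)
  obtain ⟨M, σ, hM, hMα⟩ := exists_sem hK.nondeg hd h4 α
  obtain ⟨y, hy, hMy⟩ := hK.cent1 hM h0.left h0.left_ne (by
    intro x hx
    rw [← hMα _ _ h0.left hx, hα _ (R_le hF hn hx)])
  have hconj : ∀ x, α x = tE Q (e 0) y * x * (tE Q (e 0) y)⁻¹ := by
    have h2 : (MulAut.conj (tE Q (e 0) y)⁻¹ * α).toMonoidHom.eqLocus (MonoidHom.id ↥(E Q)) = ⊤ := by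
      apply closure_tE Q
      intro u x hu hx
      show (tE Q (e 0) y)⁻¹ * α (tE Q u x) * (tE Q (e 0) y)⁻¹⁻¹ = tE Q u x
      have h3 := tE_conj (tE Q (e 0) y) u x
      rw [hMα u x hu hx, hMy, hMy, inv_inv]
      rw [coe_tE] at h3
      rw [← h3]
      group
    intro x
    have h3 : x ∈ (MulAut.conj (tE Q (e 0) y)⁻¹ * α).toMonoidHom.eqLocus (MonoidHom.id ↥(E Q)) := by
      rw [h2]; trivial
    have h4 : (tE Q (e 0) y)⁻¹ * α x * (tE Q (e 0) y)⁻¹⁻¹ = x := h3
    conv_rhs => rw [← h4]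
    group
  -- `y ∈ ⟨e₀, e₁⟩`
  have hLn : Ln Q (e 0) (e 1) := by
    refine ⟨h0.left, h1.left, h01, h0.left_ne, fun c hc => ?_⟩
    have h2 := h1.pair
    rw [hc, polar_smul_left, hF.ef 0 1 (by omega) (by omega) (by decide), smul_zero] at h2
    exact zero_ne_one h2
  have hkey : ∀ w, Ln3 Q (e 0) (e 1) w → polar Q (e 1) y = 0 ∧ polar Q y w = 0 := by
    intro w hw
    have h2 : tE Q (e 1) w ∈ UK Q e f n := R1_le hF hn hw.uw.perp hw.perp
    have h3 := hα _ h2
    rw [hconj] at h3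
    -- `tE e₀ y` commutes with `tE e₁ w`
    have h5 := tE_conj (tE Q (e 1) w) (e 0) y
    have h6 : tE Q (e 1) w * tE Q (e 0) y * (tE Q (e 1) w)⁻¹ = tE Q (e 0) y := by
      rw [mul_inv_eq_iff_eq_mul] at h3 ⊢
      exact h3.symm
    have h7 : ((tE Q (e 1) w : ↥(E Q)) : V ≃ₗ[F] V) (e 0) = e 0 := by
      rw [coe_tE, T_apply2 h1.left hw.perp, h10, polar_zero_of_comm hw.uw.perp]
      simp
    rw [h6, h7, coe_tE, T_apply2 h1.left hw.perp] at h5
    obtain ⟨c, hc⟩ := (tE_eq_iff hK.nondeg h0.left h0.left_ne hy (by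
      rw [polar_add_right, polar_add_right, polar_smul_right, polar_smul_right, hy, hw.uw.perp, h01]
      simp)).1 h5
    have h8 : polar Q (e 1) y • w + (polar Q w y + Q w * polar Q (e 1) y) • e 1 = c • e 0 := by
      rw [add_assoc] at hc
      exact add_left_cancel hc
    have h9 : polar Q (e 1) y = 0 := by
      by_contra hne
      apply hw.ind
      rw [mem_L]
      refine ⟨(polar Q (e 1) y)⁻¹ * c, (polar Q (e 1) y)⁻¹ * (polar Q w y + Q w * polar Q (e 1) y), ?_⟩
      rw [mul_smul, mul_smul, ← h8, smul_add, smul_smul, inv_mul_cancel₀ hne, one_smul]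
      have h6 := add_self' (F := F) ((polar Q (e 1) y)⁻¹ • (polar Q w y + Q w * polar Q (e 1) y) • e 1)
      rw [add_assoc, h6, add_zero]
    refine ⟨h9, ?_⟩
    rw [h9, zero_smul, mul_zero, add_zero, zero_add] at h8
    have h11 := congrArg (fun v => polar Q (f 1) v) h8
    simp only [polar_smul_right] at h11
    rw [h1.pair', polar_zero_of_comm (hF.ef 0 1 (by omega) (by omega) (by decide))] at h11
    rw [polar_comm]
    simpa using h11
  obtain ⟨s, t, hst⟩ := hK.perp2 hLn (fun w hw => (hkey w hw).2)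
  refine ⟨tE Q (e 0) y, mem_X.2 ⟨t, ?_⟩, hconj⟩
  have h2 : polar Q (e 0) (t • e 1) = 0 := by rw [polar_smul_right, h01, smul_zero]
  rw [hst, add_comm, tE_add_smul h0.left h2]

/-- transitivity on `Z#` -/
theorem trans (hK : KFacts Q) (hF : Flag Q n e f) (hn : 3 ≤ n) {z z' : ↥(E Q)} (hz : z ∈ Z hF hn) (hz' : z' ∈ Z hF hn)
    (h1 : z ≠ 1) (h1' : z' ≠ 1) : ∃ k : ↥(E Q), k * z * k⁻¹ = z' := by
  have h0 := hF.hyp 0 (by omega)
  have h01 := hF.ee 0 1 (by omega) (by omega) (by decide)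
  obtain ⟨c, rfl⟩ := mem_X.1 hz
  obtain ⟨d, rfl⟩ := mem_X.1 hz'
  have hc : c ≠ 0 := by
    rintro rfl
    rw [zero_smul, tE_zero_right] at h1
    exact h1 rfl
  have hd : d ≠ 0 := by
    rintro rfl
    rw [zero_smul, tE_zero_right] at h1'
    exact h1' rfl
  obtain ⟨k, k1, -, k3⟩ := hK.scal h0 (κ := d * c⁻¹) (mul_ne_zero hd (inv_ne_zero hc))
  refine ⟨k, ?_⟩
  have h2 : polar Q (e 0) (c • e 1) = 0 := by rw [polar_smul_right, h01, smul_zero]
  rw [tE_conj, k1, map_smul, k3 (e 1) h01 (polar_zero_of_comm (hF.ef 1 0 (by omega) (by omega) (by decide))),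
    tE_smul_left _ h0.left h2, smul_smul, mul_assoc, inv_mul_cancel₀ hc, mul_one]

/-- **`FrGen.KF` for `↥(E Q)`** -/
theorem kf (hK : KFacts Q) [Finite F] [Finite V] (hd : 8 ≤ Module.finrank F V) (h4 : NoFour Q) (hF : Flag Q n e f)
    (hn : 3 ≤ n) (hp : IsPGroup 2 ↥(UK Q e f n)) (ho : Odd (UK Q e f n).index) {a y : V}
    (ha : a ∈ Yv Q e f 2) (hy : y ∈ Yv Q e f 2) (qa : Q a ≠ 0) (qy : Q y ≠ 0) (hay : polar Q a y ≠ 0) :
    KF (UK Q e f n) (Z hF hn) := by
  have h0 := hF.hyp 0 (by omega)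
  have h1 := hF.hyp 1 (by omega)
  have h01 := hF.ee 0 1 (by omega) (by omega) (by decide)
  have S : Six Q (e 0) (e 1) (e 2) (f 2) a y :=
    { qu := h0.left
      qv := h1.left
      h := hF.hyp 2 (by omega)
      uv := h01
      uw := hF.ee 0 2 (by omega) (by omega) (by decide)
      uw' := hF.ef 0 2 (by omega) (by omega) (by decide)
      vw := hF.ee 1 2 (by omega) (by omega) (by decide)
      vw' := hF.ef 1 2 (by omega) (by omega) (by decide)
      ua := (ha 0 (by omega)).1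
      va := (ha 1 (by omega)).1
      wa := (ha 2 (by omega)).1
      w'a := (ha 2 (by omega)).2
      uy := (hy 0 (by omega)).1
      vy := (hy 1 (by omega)).1
      wy := (hy 2 (by omega)).1
      w'y := (hy 2 (by omega)).2
      qa := qa
      qy := qy
      ay := hay }
  have hz1 : tE Q (e 0) (e 1) ≠ 1 := by
    intro h2
    have h3 := congrArg (fun g : ↥(E Q) => (g : V ≃ₗ[F] V) (f 0)) h2
    have h5 : ((tE Q (e 0) (e 1) : ↥(E Q)) : V ≃ₗ[F] V) (f 0) = f 0 + e 1 := by
      rw [coe_tE, T_apply2 h0.left h01, h0.pair, hF.ef 1 0 (by omega) (by omega) (by decide), h1.left]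
      simp
    have h6 : f 0 + e 1 = f 0 := by rw [← h5]; exact h3
    have h7 : e 1 = 0 := by
      have h8 : f 0 + e 1 = f 0 + 0 := by rw [h6, add_zero]
      exact add_left_cancel h8
    exact h1.left_ne h7
  have htr : ∀ z ∈ Z hF hn, ∀ z' ∈ Z hF hn, z ≠ 1 → z' ≠ 1 → ∃ k : ↥(E Q), k * z * k⁻¹ = z' :=
    fun z hz z' hz' h h' => trans hK hF hn hz hz' h h'
  have hmem : tE Q (e 0) (e 1) ∈ Z hF hn := mem_X.2 ⟨1, by rw [one_smul]⟩
  refine ⟨⟨hp, ?_, Z_le hF hn, fun z hz u hu => Z_comm hF hn hz hu, ?_, ?_, ?_, ?_⟩, htr⟩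
  · -- maximality
    intro P hP hUP
    have hfin0 : Finite (V ≃ₗ[F] V) := Finite.of_injective (fun g => (g : V → V)) DFunLike.coe_injective
    have hfin : Finite ↥(E Q) := inferInstance
    have h2 : (UK Q e f n).relIndex P = 1 := by
      have : Fact (Nat.Prime 2) := ⟨Nat.prime_two⟩
      have h3 : Odd ((UK Q e f n).relIndex P) := by
        have h5 := Subgroup.relIndex_mul_index hUP
        rw [← h5] at ho
        exact (Nat.odd_mul.1 ho).1
      obtain ⟨k, hk⟩ := IsPGroup.index hP ((UK Q e f n).subgroupOf P)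
      have h5 : (UK Q e f n).relIndex P = 2 ^ k := hk
      rw [h5] at h3 ⊢
      rcases Nat.eq_zero_or_pos k with rfl | hk0
      · rfl
      · exact absurd ((Nat.even_pow.2 ⟨even_two, hk0.ne'⟩)) (Nat.not_even_iff_odd.2 h3)
    exact Subgroup.relIndex_eq_one.1 h2
  · intro z hz
    obtain ⟨c, rfl⟩ := mem_X.1 hz
    exact tE_mul_self h0.left (by rw [polar_smul_right, h01, smul_zero])
  · intro hbot
    rw [hbot, Subgroup.mem_bot] at hmem
    exact hz1 hmem
  · intro α _ hα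
    exact aut hK hd h4 hF hn hα
  · refine P2_of_trans htr ⟨_, hmem, hz1, Subgroup.closure (gens Q (e 0) (e 1) (e 2) (f 2) a y), perfect S, ?_, ?_⟩
    · have h2 := z_mem S 1
      rwa [one_smul] at h2
    · intro g hg
      have h2 := z_comm S 1 hg
      rwa [one_smul] at h2

end Flag

/-! ### `Ω⁻_{2m+2}(q)` -/

section Minus

open Cfsg.Agent.LieClassical.OrthForms Cfsg.Agent.OddHalf.Orth.KFlag Cfsg.Agent.OddHalf.Orth.KFlagMain

variable {F : Type*} [Field F] [Finite F] [CharP F 2] {m : ℕ} {a b : F}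

theorem noFour_minus (hm : 3 ≤ m) (hab : ∀ z₁ z₂ : F, z₁ ^ 2 + a * z₁ * z₂ + b * z₂ ^ 2 = 0 → z₁ = 0 ∧ z₂ = 0) :
    NoFour (minusForm m F a b) := by
  rintro ⟨h8, W, hW, h4⟩
  rw [finrank_minus] at h8
  rw [Cfsg.Agent.AutOrth.Main.minusForm_eq] at hW
  have h1 := Cfsg.Agent.AutOrth.Main.finrank_le_of_TS_minus m a b hab hW
  omega

/-- **`FrGen.KF` for `Ω⁻_{2m+2}(q)`, `q` even, `m ≥ 3`** -/
theorem kf_minus (hm : 3 ≤ m) (hab : ∀ z₁ z₂ : F, z₁ ^ 2 + a * z₁ * z₂ + b * z₂ ^ 2 = 0 → z₁ = 0 ∧ z₂ = 0) :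
    KF (UK (minusForm m F a b) (em m a b hab) (fm m a b hab) m) (Z (flag_minus hm a b hab).1 hm) := by
  have h20 : (2 : F) = 0 := CharTwo.two_eq_zero
  have hb : b ≠ 0 := by
    rintro rfl
    exact one_ne_zero (hab 0 1 (by ring)).2
  have ha : a ≠ 0 := by
    rintro rfl
    obtain ⟨d, hd⟩ := FiniteField.isSquare_of_char_two (ringChar.eq F 2) b
    exact one_ne_zero (hab d 1 (by rw [hd]; linear_combination d * d * h20)).2
  have hY : ∀ (i : Fin 2), (Pi.single (Sum.inr i) 1 : (Fin m ⊕ Fin m) ⊕ Fin 2 → F) ∈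
      Yv (minusForm m F a b) (em m a b hab) (fm m a b hab) 2 := by
    intro i k hk
    have hkm : k < m := by omega
    rw [show em m a b hab k = _ from eN_eq _ hkm, show fm m a b hab k = _ from fN_eq _ hkm]
    constructor
    · show polar (minusForm m F a b) (Pi.single (Sum.inl (Sum.inl _)) 1) _ = 0
      rw [polar_minusForm]
      simp [Pi.single_apply]
    · show polar (minusForm m F a b) (Pi.single (Sum.inl (Sum.inr _)) 1) _ = 0
      rw [polar_minusForm]
      simp [Pi.single_apply]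
  refine kf (kfacts_minus m a b hab hm) (by rw [finrank_minus]; omega) (noFour_minus hm hab) _ hm
    (flag_minus hm a b hab).2.2 (flag_minus hm a b hab).2.1 (hY 0) (hY 1) ?_ ?_ ?_
  · rw [coe_minusForm, quadFormMinus_apply]
    simp
  · rw [coe_minusForm, quadFormMinus_apply]
    simpa using hb
  · rw [polar_minusForm]
    simpa using ha

/-- the same for a group isomorphic to `Ω⁻` -/
theorem exists_kf (hm : 3 ≤ m) (hab : ∀ z₁ z₂ : F, z₁ ^ 2 + a * z₁ * z₂ + b * z₂ ^ 2 = 0 → z₁ = 0 ∧ z₂ = 0)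
    {Y : Type*} [Group Y] (φ : ↥(E (minusForm m F a b)) ≃* Y) : ∃ U Z : Subgroup Y, KF U Z :=
  ⟨_, _, (kf_minus hm hab).map φ⟩

end Minus

end Cfsg.Agent.KFacts.OutCyc.MinusKF
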